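import Cfsg.Prelude.Def_Local
import Cfsg.Agent.Lib.Solvable.Fitting
import Cfsg.Agent.Lib.Solvable.Hall
import Cfsg.Agent.Lib.Techniques.PConstrained
import Cfsg.Agent.Lib.Components.Local

/-!
General facts for groups whose `p'`-subgroups are abelian.
-/

set_option autoImplicit false
set_option linter.style.haveILetI false

namespace Cfsg.Agent.AbPPrime

open Subgroup
open scoped Pointwise

universe u

variable {G : Type u} [Group G]

/-- Every `p'`-subgroup is abelian of exponent dividing `p - 1`. -/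
def Good' (p : ℕ) (G : Type u) [Group G] : Prop :=
  ∀ H : Subgroup G, (Nat.card ↥H).Coprime p → IsMulCommutative ↥H ∧ ∀ x ∈ H, x ^ (p - 1) = 1

theorem Good'.sub {p : ℕ} (h : Good' p G) (K : Subgroup G) : Good' p ↥K := by
  intro H hH
  rw [← card_map_of_injective K.subtype_injective] at hH
  obtain ⟨hc, he⟩ := h (H.map K.subtype) hH
  refine ⟨.of_setLike_mul_comm fun a ha b hb => Subtype.ext ?_, fun x hx => Subtype.ext ?_⟩
  · exact setLike_mul_comm (s := H.map K.subtype) (mem_map_of_mem K.subtype ha) (mem_map_of_mem K.subtype hb)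
  · simpa using he _ (mem_map_of_mem K.subtype hx)

theorem Good'.comm {p : ℕ} (h : Good' p G) {H : Subgroup G} (hH : (Nat.card ↥H).Coprime p) {a b : G}
    (ha : a ∈ H) (hb : b ∈ H) : a * b = b * a :=
  haveI := (h H hH).1
  setLike_mul_comm (s := H) ha hb

variable [Finite G] {p : ℕ} [hp : Fact p.Prime]

theorem coprime_zpowers {x : G} (hx : (orderOf x).Coprime p) :
    (Nat.card ↥(zpowers x)).Coprime p := by rwa [Nat.card_zpowers]

theorem coprime_of_orderTwo (hp2 : p ≠ 2) {x : G} (hx : orderOf x = 2) : (orderOf x).Coprime p := by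
  rw [hx]
  exact (Nat.coprime_primes Nat.prime_two hp.out).2 (Ne.symm hp2)

theorem card_sup_dvd {A B : Subgroup G} (h : B ≤ normalizer (A : Set G)) :
    Nat.card ↥(A ⊔ B) ∣ Nat.card A * Nat.card B := by
  haveI : (A.subgroupOf (A ⊔ B)).Normal :=
    (normal_subgroupOf_iff_le_normalizer le_sup_left).2 (sup_le le_normalizer h)
  have h1 := (A.subgroupOf (A ⊔ B)).card_mul_index
  have h2 : (A.subgroupOf (A ⊔ B)).index ∣ Nat.card ↥(B.subgroupOf (A ⊔ B)) := by
    have h3 := relIndex_sup_right (B.subgroupOf (A ⊔ B)) (A.subgroupOf (A ⊔ B))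
    rw [show B.subgroupOf (A ⊔ B) ⊔ A.subgroupOf (A ⊔ B) = ⊤ by
      rw [sup_comm, ← subgroupOf_sup le_sup_left le_sup_right, subgroupOf_self],
      relIndex_top_right] at h3
    rw [h3]
    exact relIndex_dvd_card _ _
  rw [← h1, Nat.card_congr (subgroupOfEquivOfLe (le_sup_left : A ≤ A ⊔ B)).toEquiv]
  rw [Nat.card_congr (subgroupOfEquivOfLe (le_sup_right : B ≤ A ⊔ B)).toEquiv] at h2
  exact Nat.mul_dvd_mul_left _ h2

/-- A `p'`-element centralises every `p'`-subgroup that it normalises. -/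
theorem Good'.centralises (h : Good' p G) {x : G} {Y : Subgroup G} (hx : (orderOf x).Coprime p)
    (hY : (Nat.card ↥Y).Coprime p) (hn : x ∈ normalizer (Y : Set G)) :
    x ∈ centralizer (Y : Set G) := by
  have hcop : (Nat.card ↥(Y ⊔ zpowers x)).Coprime p :=
    Nat.Coprime.coprime_dvd_left (card_sup_dvd (zpowers_le.2 hn))
      (hY.mul_left (coprime_zpowers hx))
  rw [mem_centralizer_iff]
  exact fun y hy => h.comm hcop (mem_sup_left hy) (mem_sup_right (mem_zpowers x))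


/-- An element inverted by some element, of order prime to `p`, is an involution or trivial. -/
theorem Good'.sq_of_inverted (h : Good' p G) {u y : G} (hu : (orderOf u).Coprime p)
    (hy : (orderOf y).Coprime p) (hinv : u * y * u⁻¹ = y⁻¹) : y * y = 1 := by
  have hn : u ∈ normalizer ((zpowers y : Subgroup G) : Set G) := by
    refine mem_normalizer_fintype ?_
    intro z hz
    obtain ⟨i, rfl⟩ := mem_zpowers_iff.1 (SetLike.mem_coe.1 hz)
    rw [← conj_zpow, hinv]
    exact zpow_mem (inv_mem (mem_zpowers y)) i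
  have hc := mem_centralizer_iff.1 (h.centralises hu (coprime_zpowers hy) hn) y (mem_zpowers y)
  rw [← hc, mul_inv_cancel_right] at hinv
  exact mul_eq_one_iff_eq_inv.2 hinv

/-- An element splits into its `p`-part and its `p'`-part. -/
theorem exists_parts (x : G) :
    ∃ a b : G, (∃ k : ℕ, a ^ p ^ k = 1) ∧ (orderOf b).Coprime p ∧ a * b = x ∧ Commute a b ∧
      a ∈ zpowers x ∧ b ∈ zpowers x := by
  have h0 := (orderOf_pos x).ne'
  set n := orderOf x
  set e := n.factorization p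
  set k := n / p ^ e
  have hk : (p ^ e).Coprime k := Nat.Coprime.pow_left _ (Nat.coprime_ordCompl hp.out h0)
  have hgcd : (1 : ℤ) = (p ^ e : ℕ) * Nat.gcdA (p ^ e) k + k * Nat.gcdB (p ^ e) k := by
    rw [← Nat.gcd_eq_gcd_ab, hk.gcd_eq_one, Nat.cast_one]
  have hn : p ^ e * k = n := Nat.ordProj_mul_ordCompl_eq_self n p
  have hxn : x ^ ((p ^ e * k : ℕ) : ℤ) = 1 := by rw [zpow_natCast, hn, pow_orderOf_eq_one]
  refine ⟨x ^ ((k : ℤ) * Nat.gcdB (p ^ e) k), x ^ (((p ^ e : ℕ) : ℤ) * Nat.gcdA (p ^ e) k), ⟨e, ?_⟩,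
    ?_, ?_, (Commute.refl x).zpow_zpow _ _, zpow_mem (mem_zpowers x) _, zpow_mem (mem_zpowers x) _⟩
  · rw [← zpow_natCast, ← zpow_mul, show (k : ℤ) * Nat.gcdB (p ^ e) k * ((p ^ e : ℕ) : ℤ) =
      ((p ^ e * k : ℕ) : ℤ) * Nat.gcdB (p ^ e) k by push_cast; ring, zpow_mul, hxn, one_zpow]
  · refine Nat.Coprime.coprime_dvd_left (orderOf_dvd_of_pow_eq_one (n := k) ?_)
      (Nat.coprime_comm.1 (Nat.coprime_ordCompl hp.out h0))
    rw [← zpow_natCast, ← zpow_mul, show ((p ^ e : ℕ) : ℤ) * Nat.gcdA (p ^ e) k * (k : ℤ) =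
      ((p ^ e * k : ℕ) : ℤ) * Nat.gcdA (p ^ e) k by push_cast; ring, zpow_mul, hxn, one_zpow]
  · rw [← zpow_add, add_comm, ← hgcd, zpow_one]

/-- In a solvable group with abelian Sylow 2-subgroup `T`, `X = O(X) N_X(T)`. -/
theorem oddCore_sup_normalizer [Group.IsSolvable G] (T : Sylow 2 G)
    (hT : IsMulCommutative ↥(T : Subgroup G)) :
    normalizer ((T : Subgroup G) : Set G) ⊔ Cfsg.pPrimeCore 2 G = ⊤ := by
  haveI := Fact.mk Nat.prime_two
  haveI := FittingCores.pPrimeCore_normal (G := G) 2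
  set f := QuotientGroup.mk' (Cfsg.pPrimeCore 2 G) with hf
  have hfs : Function.Surjective f := QuotientGroup.mk'_surjective _
  have hc : centralizer (Cfsg.pCore 2 (G ⧸ Cfsg.pPrimeCore 2 G) : Set (G ⧸ Cfsg.pPrimeCore 2 G)) ≤
      Cfsg.pCore 2 (G ⧸ Cfsg.pPrimeCore 2 G) :=
    FittingCores.centralizer_pCore_le Nat.prime_two (Components.pPrimeCore_quotient G)
  set T' := T.mapSurjective hfs
  haveI hpn := FittingCores.pCore_normal (G := G ⧸ Cfsg.pPrimeCore 2 G) 2
  have hle : Cfsg.pCore 2 (G ⧸ Cfsg.pPrimeCore 2 G) ≤ (T' : Subgroup (G ⧸ Cfsg.pPrimeCore 2 G)) :=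
    FittingCores.pCore_le_sylow T'
  have heq : (T' : Subgroup (G ⧸ Cfsg.pPrimeCore 2 G)) = Cfsg.pCore 2 (G ⧸ Cfsg.pPrimeCore 2 G) := by
    refine le_antisymm (le_trans ?_ hc) hle
    rw [Sylow.coe_mapSurjective]
    rintro _ ⟨a, ha, rfl⟩
    rw [mem_centralizer_iff]
    intro b hb
    obtain ⟨c, hc', rfl⟩ := (Sylow.coe_mapSurjective hfs T ▸ hle hb : b ∈ (T : Subgroup G).map f)
    rw [← map_mul, ← map_mul, setLike_mul_comm (s := (T : Subgroup G)) hc' ha]
  set N := (Cfsg.pCore 2 (G ⧸ Cfsg.pPrimeCore 2 G)).comap f with hN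
  haveI : N.Normal := hpn.comap f
  have hTN : (T : Subgroup G) ≤ N := fun x hx => by
    rw [hN, mem_comap, ← heq, Sylow.coe_mapSurjective]
    exact mem_map_of_mem f hx
  have h1 := Sylow.normalizer_sup_eq_top' T hTN
  rw [eq_top_iff, ← h1]
  refine sup_le le_sup_left ?_
  rw [hN, ← heq, Sylow.coe_mapSurjective, comap_map_eq, hf, QuotientGroup.ker_mk']
  exact sup_le_sup_right le_normalizer _

/-- A solvable group is `2`-constrained. -/
theorem isPConstrained_of_solvable {q : ℕ} [Fact q.Prime] [Group.IsSolvable G] :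
    Cfsg.IsPConstrained q G :=
  Components.isPConstrained_iff_charP.2
    (FittingCores.centralizer_pCore_le Fact.out (Components.pPrimeCore_quotient G))

/-- `2 ^ e - 1` is a proper prime power only when it is prime. -/
theorem prime_of_two_pow {e a : ℕ} (h : 2 ^ e = p ^ a + 1) (ha : a ≠ 0) : a = 1 := by
  have hp3 : 3 ≤ p ∨ p = 2 := by have := hp.out.two_le; omega
  rcases hp3 with hp3 | rfl
  swap
  · -- `p = 2`: parity
    have he : e ≠ 0 := by rintro rfl; simp at h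
    have h1 : 2 ∣ 2 ^ e := dvd_pow_self 2 he
    have h2 : 2 ∣ 2 ^ a := dvd_pow_self 2 ha
    omega
  have hpodd : p % 2 = 1 := Nat.odd_iff.1 (hp.out.odd_of_ne_two (by omega))
  have he : 2 ≤ e := by
    by_contra hlt
    have h1 : p ≤ p ^ a := Nat.le_self_pow ha p
    have h2 : 2 ^ e ≤ 2 ^ 1 := Nat.pow_le_pow_right two_pos (by omega)
    omega
  obtain ⟨k, rfl | rfl⟩ : ∃ k, a = 2 * k ∨ a = 2 * k + 1 := ⟨a / 2, by omega⟩
  · exfalso
    have h4 : 4 ∣ 2 ^ e := Nat.pow_dvd_pow 2 he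
    have h2 : p ^ k % 2 = 1 := by
      simp [Nat.pow_mod, hpodd]
    have h5 : p ^ (2 * k) % 4 = 1 := by
      rw [two_mul, pow_add, Nat.mul_mod]
      rcases (show p ^ k % 4 = 1 ∨ p ^ k % 4 = 3 by omega) with h' | h' <;> rw [h']
    omega
  -- `p + 1 = 2 ^ f`
  have hdvd : p + 1 ∣ 2 ^ e := by
    have h1 : Odd (2 * k + 1) := ⟨k, rfl⟩
    have h2 := h1.nat_add_dvd_pow_add_pow p 1
    rwa [one_pow, ← h] at h2
  obtain ⟨f, -, hf⟩ := (Nat.dvd_prime_pow Nat.prime_two).1 hdvd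
  have hf1 : 2 ≤ f := by
    by_contra hlt
    have : 2 ^ f ≤ 2 ^ 1 := Nat.pow_le_pow_right two_pos (by omega)
    omega
  have hmod : p ^ (2 * k + 1) % 2 ^ (f + 1) = p % 2 ^ (f + 1) := by
    have hsq : p ^ 2 % 2 ^ (f + 1) = 1 % 2 ^ (f + 1) := by
      have h1 : 2 ^ (f + 1) ∣ (p + 1) * (p - 1) := by
        rw [hf, pow_succ]
        exact Nat.mul_dvd_mul_left _ (by omega)
      refine ((Nat.modEq_iff_dvd' (Nat.one_le_pow _ _ (by omega))).2 ?_).symm
      rw [← one_pow 2, Nat.sq_sub_sq]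
      simpa using h1
    rw [pow_succ, pow_mul, Nat.mul_mod, Nat.pow_mod, hsq, ← Nat.pow_mod, one_pow, ← Nat.mul_mod,
      one_mul]
  have hef : e ≤ f := by
    by_contra hlt
    have h1 : (p ^ (2 * k + 1) + 1) % 2 ^ (f + 1) = 0 := by
      rw [← h]
      exact Nat.mod_eq_zero_of_dvd (Nat.pow_dvd_pow 2 (by omega))
    rw [Nat.add_mod, hmod, ← Nat.add_mod, hf,
      Nat.mod_eq_of_lt (Nat.pow_lt_pow_right (by norm_num) (Nat.lt_succ_self f))] at h1
    exact absurd h1 (pow_ne_zero _ two_ne_zero)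
  have hle : p ^ (2 * k + 1) ≤ p := by
    have : 2 ^ e ≤ 2 ^ f := Nat.pow_le_pow_right two_pos hef
    omega
  by_contra hk
  have hlt : p ^ 1 < p ^ (2 * k + 1) := Nat.pow_lt_pow_right (by omega) (by omega)
  rw [pow_one] at hlt
  omega

end Cfsg.Agent.AbPPrime
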