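import Cfsg.Agent.Lib.AbPPrime.Embedded
import Cfsg.Agent.Lib.PStable.FusionControl
import Cfsg.Agent.Lib.Solvable.ScnCentralizer
import Cfsg.Agent.Lib.Transfer.Fusion

/-!
The normaliser of `Z(J(P))` escapes `M`, so the involutions of `M` form with 1 a normal subgroup `E`, whose
centralizer meets no other conjugate of `M`; hence centralizers of involutions are abelian.
-/

set_option autoImplicit false
set_option linter.style.haveILetI false
set_option linter.unusedSectionVars false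

namespace Cfsg.Agent.AbPPrime

open Subgroup Cfsg.Agent.Invol
open scoped Pointwise commutatorElement

universe u

variable {G : Type u} [Group G] [Finite G] {p : ℕ} [hp : Fact p.Prime]

theorem Ctr.not_involves (h : Ctr p G) :
    ¬ Cfsg.Involves (Matrix.SpecialLinearGroup (Fin 2) (ZMod p)) G := by
  rintro ⟨K, R, hR, ⟨e⟩⟩
  have hns := ScnCentralizer.sl2_not_solvable p h.five
  by_cases hK : K = ⊤
  · subst hK
    haveI := h.simple
    haveI := hR
    haveI : R.Normal := ⟨fun r hr g =>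
      mem_subgroupOf.1 (hR.conj_mem ⟨r, mem_top r⟩ (mem_subgroupOf.2 hr) ⟨g, mem_top g⟩)⟩
    rcases (inferInstance : R.Normal).eq_bot_or_eq_top with e' | e'
    · -- `G` would be isomorphic to `SL₂(p)`, whose centre is non-trivial
      subst e'
      let φ : Matrix.SpecialLinearGroup (Fin 2) (ZMod p) →* G :=
        ((((QuotientGroup.quotientMulEquivOfEq (bot_subgroupOf (⊤ : Subgroup G))).trans
          QuotientGroup.quotientBot).trans topEquiv)).toMonoidHom.comp e.symm.toMonoidHom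
      have hφ : Function.Bijective φ :=
        ((((QuotientGroup.quotientMulEquivOfEq (bot_subgroupOf (⊤ : Subgroup G))).trans
          QuotientGroup.quotientBot).trans topEquiv)).bijective.comp e.symm.bijective
      let z : Matrix.SpecialLinearGroup (Fin 2) (ZMod p) := ⟨-1, by simp [Matrix.det_neg]⟩
      have hz : ∀ x, z * x = x * z := fun x => Subtype.ext (by
        show (-1 : Matrix (Fin 2) (Fin 2) (ZMod p)) * x.1 = x.1 * -1
        rw [neg_one_mul, mul_neg_one])
      have hz1 : z ≠ 1 := fun e0 => by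
        have h1 : (-1 : ZMod p) = 1 := by
          simpa [z] using congrArg (fun m : Matrix.SpecialLinearGroup (Fin 2) (ZMod p) => m.1 0 0) e0
        have h2 : ((2 : ℕ) : ZMod p) = 0 := by push_cast; linear_combination -h1
        rw [ZMod.natCast_eq_zero_iff] at h2
        have := h.five
        have := Nat.le_of_dvd two_pos h2
        omega
      have hne : φ z ≠ 1 := fun e0 => hz1 (hφ.1 (by rw [e0, map_one]))
      apply h.centralizer_ne_top hne
      rw [eq_top_iff]
      intro g _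
      obtain ⟨x, rfl⟩ := hφ.2 g
      rw [mem_centralizer_singleton_iff, ← map_mul, ← map_mul, hz]
    · subst e'
      apply hns
      haveI : Subsingleton ((⊤ : Subgroup G) ⧸ (⊤ : Subgroup G).subgroupOf ⊤) :=
        QuotientGroup.subsingleton_iff.2 (subgroupOf_self _)
      haveI := e.symm.injective.subsingleton
      infer_instance
  · apply hns
    haveI := h.proper K hK
    haveI := hR
    exact Group.isSolvable_of_surjective (f := e.toMonoidHom.comp (QuotientGroup.mk' (R.subgroupOf K)))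
      (e.surjective.comp (QuotientGroup.mk'_surjective _))

/-- `Z(S) ≤ Z(J(S))`. -/
theorem center_le_zJ {S : Subgroup G} {z : G} (hz : z ∈ S) (hc : ∀ y ∈ S, y * z = z * y) :
    z ∈ ZJ.zJ p False S := by
  have key : ∀ A, ZJ.IsMaxIn p False S A → z ∈ A := by
    intro A hA
    have hle : A ⊔ zpowers z ≤ S := sup_le hA.1 (zpowers_le.2 hz)
    have hcomm : IsMulCommutative ↥(A ⊔ zpowers z) := by
      refine le_centralizer_iff_isMulCommutative.1 (sup_le ?_ ?_)
      · rw [le_centralizer_iff]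
        refine sup_le (fun a ha => mem_centralizer_iff.2 fun b hb => hA.2.1.comm hb ha)
          (zpowers_le.2 (mem_centralizer_iff.2 fun b hb => hc b (hA.1 hb)))
      · rw [zpowers_le, mem_centralizer_iff]
        exact fun y hy => hc y (hle hy)
    have hsml : ZJ.Sml p False (A ⊔ zpowers z) := ⟨hcomm, fun hf => hf.elim⟩
    have e := eq_of_le_of_card_ge (le_sup_left : A ≤ A ⊔ zpowers z) (hA.2.2 _ hle hsml)
    exact e ▸ mem_sup_right (mem_zpowers z)
  obtain ⟨A, hA⟩ := ZJ.exists_isMaxIn p False S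
  refine ⟨ZJ.le_jSub hA (key A hA), mem_centralizer_iff.2 fun y hy => ?_⟩
  exact hc y (ZJ.jSub_le S hy)

/-- A nontrivial normal subgroup of a `p`-group meets the centre nontrivially. -/
theorem inf_center_ne_bot {S : Type*} [Group S] [Finite S] {q : ℕ} [Fact q.Prime] (hS : IsPGroup q S)
    {N : Subgroup S} [N.Normal] (hN : N ≠ ⊥) : N ⊓ center S ≠ ⊥ := by
  intro h
  have := hS.isNilpotent
  obtain ⟨n, hn⟩ := Group.IsNilpotent.nilpotent S
  have key : ∀ k, N ⊓ Subgroup.upperCentralSeries S k ≤ (⊥ : Subgroup S) := fun k => by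
    induction k with
    | zero => simp
    | succ k ih =>
      intro x hx
      refine h.le ⟨hx.1, mem_center_iff.2 fun y => ?_⟩
      have h1 : ⁅x, y⁆ ∈ N := by
        rw [show ⁅x, y⁆ = x * (y * x⁻¹ * y⁻¹) by simp [commutatorElement_def, mul_assoc]]
        exact mul_mem hx.1 ((inferInstance : N.Normal).conj_mem _ (inv_mem hx.1) y)
      exact (commutatorElement_eq_one_iff_mul_comm.1
        (mem_bot.1 (ih ⟨h1, Subgroup.mem_upperCentralSeries_succ_iff.1 hx.2 y⟩))).symm
  exact hN (le_bot_iff.1 (by simpa [hn] using key n))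

namespace Emb

variable (d : Emb p G)

/-- A Sylow `p`-subgroup of `M` has `N(Z(J(P)))` outside `M`. -/
theorem not_normalizer_zJ_le (P : Sylow p ↥d.M) :
    ¬ normalizer ((ZJ.zJ p False ((P : Subgroup ↥d.M).map d.M.subtype) : Subgroup G) : Set G) ≤ d.M := by
  intro hle
  haveI := Fact.mk Nat.prime_two
  haveI := d.ctr.simple
  set PG := (P : Subgroup ↥d.M).map d.M.subtype with hPG
  have hPM : PG ≤ d.M := map_subtype_le _
  obtain ⟨Q, hQ⟩ := (P.isPGroup'.map d.M.subtype).exists_le_sylow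
  have hPQ : PG = (Q : Subgroup G) := by
    refine le_antisymm hQ ?_
    by_contra hnot
    haveI := Q.isPGroup'.isNilpotent
    have hlt : PG.subgroupOf (Q : Subgroup G) < ⊤ := by
      rw [lt_top_iff_ne_top, Ne, subgroupOf_eq_top]
      exact hnot
    obtain ⟨g, hg, hgn⟩ := SetLike.exists_of_lt (Group.normalizerCondition_of_isNilpotent _ hlt)
    have hgN : (g : G) ∈ normalizer (PG : Set G) := by
      refine mem_normalizer_fintype fun y hy => ?_
      exact (mem_normalizer_iff.1 hg ⟨y, hQ hy⟩).1 hy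
    have hgM : (g : G) ∈ d.M := hle (ZJ.normalizer_le_normalizer_zJ PG hgN)
    have hle' : (P : Subgroup ↥d.M) ≤ (Q : Subgroup G).subgroupOf d.M := fun y hy =>
      hQ ⟨y, hy, rfl⟩
    have e := P.3 Q.isPGroup'.comap_subtype hle'
    have hmem : (⟨g, hgM⟩ : ↥d.M) ∈ (Q : Subgroup G).subgroupOf d.M := g.2
    rw [subgroupOf, e] at hmem
    exact hgn ⟨⟨g, hgM⟩, hmem, rfl⟩
  have hctl := Fusion.inf_pResidual_eq_of_controlsFusion Q d.M (hPQ ▸ hPM) fun x hx g hgx => by
    obtain ⟨n, hn, hna⟩ := PStable.exists_mem_normalizer_zJ (e := False) d.ctr.p_ne_two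
      (fun Y _ _ hY _ => PStable.isQuad_of_not_involves_sl2 d.ctr.p_ne_two
        (PStable.not_involves_section d.ctr.not_involves hY))
      Q (A := {x}) (g := g) (by simpa using hx) (by simpa using hgx)
    exact ⟨n, hle (hPQ ▸ hn), hna x rfl⟩
  have htop : Cfsg.pResidual p G = ⊤ := by
    haveI : (Cfsg.pResidual p G).Normal := LEBasic.pResidual_normal
    refine ((inferInstance : (Cfsg.pResidual p G).Normal).eq_bot_or_eq_top).resolve_left fun e => ?_
    obtain ⟨s, hs⟩ := exists_prime_orderOf_dvd_card' (G := G) 2 d.ctr.even_card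
    have hmem : s ∈ Cfsg.pResidual p G := LEBasic.mem_pResidual (coprime_of_orderTwo d.ctr.p_ne_two hs)
    rw [e, mem_bot] at hmem
    exact Invol.ne_one hs hmem
  rw [htop, inf_top_eq] at hctl
  -- so `M` is generated by its `p'`-elements
  haveI : (Cfsg.pResidual p ↥d.M).Normal := LEBasic.pResidual_normal
  have hgen : Cfsg.pResidual p ↥d.M = ⊤ := by
    have hP : (P : Subgroup ↥d.M) ≤ Cfsg.pResidual p ↥d.M := fun y hy => by
      have h1 : (y : G) ∈ PG := ⟨y, hy, rfl⟩
      rw [hPQ, hctl] at h1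
      obtain ⟨z, hz, hzy⟩ := (mem_inf.1 h1).2
      rwa [← Subtype.ext hzy]
    obtain ⟨k, hk⟩ := IsPGroup.iff_card.1 (LEBasic.quotient_pResidual_isPGroup (p := p) (G := ↥d.M))
    rw [← index_eq_one]
    have h1 : ¬ p ∣ (Cfsg.pResidual p ↥d.M).index := fun hd =>
      P.not_dvd_index (hd.trans (index_dvd_of_le hP))
    change (Cfsg.pResidual p ↥d.M).index = p ^ k at hk
    rcases Nat.eq_zero_or_pos k with rfl | hk0
    · rw [hk, pow_zero]
    · exact absurd (hk ▸ dvd_pow_self p hk0.ne') h1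
  -- but these lie in `O(M) C_M(S)`
  haveI := FittingCores.pPrimeCore_normal (G := ↥d.M) 2
  set O := Cfsg.pPrimeCore 2 ↥d.M with hO
  set C := (centralizer ((d.S : Subgroup G) : Set G)).subgroupOf d.M with hC
  have hfix : ∀ y : ↥d.M, (y : G) ∈ normalizer ((d.S : Subgroup G) : Set G) → y ∈ O → y ∈ C := by
    intro y hyn hyO
    rw [hC, mem_subgroupOf, mem_centralizer_iff]
    intro s hs
    set s' : ↥d.M := ⟨s, d.S_le hs⟩
    have h1 : y * s' * y⁻¹ * s'⁻¹ ∈ O := by
      rw [show y * s' * y⁻¹ * s'⁻¹ = y * (s' * y⁻¹ * s'⁻¹) by group]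
      exact mul_mem hyO ((inferInstance : O.Normal).conj_mem _ (inv_mem hyO) s')
    have h2 : ((y * s' * y⁻¹ * s'⁻¹ : ↥d.M) : G) ∈ (d.S : Subgroup G) :=
      mul_mem ((mem_normalizer_iff.1 hyn s).1 hs) (inv_mem hs)
    have h3 : ((y * s' * y⁻¹ * s'⁻¹ : ↥d.M) : G) = 1 :=
      PBasic.eq_one_of_isPGroup_of_coprime d.S.isPGroup' h2
        (PBasic.coprime_orderOf_of_mem (N := O.map d.M.subtype)
          (by rw [card_map_of_injective d.M.subtype_injective]; exact FittingCores.pPrimeCore_coprime 2)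
          ⟨_, h1, rfl⟩)
    have h4 : (y : G) * s * (y : G)⁻¹ * s⁻¹ = 1 := h3
    exact (mul_inv_eq_iff_eq_mul.1 (mul_inv_eq_one.1 h4)).symm
  have hle2 : Cfsg.pResidual p ↥d.M ≤ C ⊔ O := by
    rw [Cfsg.pResidual, closure_le]
    intro x hx
    have hSi : ¬ 2 ∣ (d.S : Subgroup G).relIndex d.M := fun hd =>
      d.S.not_dvd_index (hd.trans (relIndex_dvd_index_of_le d.S_le))
    obtain ⟨o, ⟨o', ho, rfl⟩, n, hnM, hn, hno⟩ := exists_core_mul (d.ctr.proper d.M d.ne_top) d.S_le
      d.S.isPGroup' (d.ctr.two_group_comm d.S.isPGroup') hSi x.2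
    set n' : ↥d.M := ⟨n, hnM⟩
    have hx' : n' * o' = x := Subtype.ext hno
    obtain ⟨a, b, ⟨k, hak⟩, hb, hab, -, haz, hbz⟩ := exists_parts (p := p) n'
    have hN : ∀ y ∈ zpowers n', (y : G) ∈ normalizer ((d.S : Subgroup G) : Set G) := by
      intro y hy
      obtain ⟨i, rfl⟩ := mem_zpowers_iff.1 hy
      rw [SubgroupClass.coe_zpow]
      exact zpow_mem hn i
    have hbC : b ∈ C := by
      rw [hC, mem_subgroupOf]
      exact d.ctr.good.centralises (by rwa [Subgroup.orderOf_coe])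
        (d.ctr.coprime_of_two _ d.S.isPGroup') (hN b hbz)
    have haO : a ∈ O := by
      have hfx : (QuotientGroup.mk' O) n' = QuotientGroup.mk' O x := by
        rw [← hx', map_mul, show QuotientGroup.mk' O o' = 1 from (QuotientGroup.eq_one_iff _).2 ho, mul_one]
      obtain ⟨i, hi⟩ := mem_zpowers_iff.1 haz
      refine (QuotientGroup.eq_one_iff _).1 (orderOf_eq_one_iff.1 ?_)
      show orderOf (QuotientGroup.mk' O a) = 1
      have h1 : orderOf (QuotientGroup.mk' O a) ∣ p ^ k :=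
        orderOf_dvd_of_pow_eq_one (by rw [← map_pow, hak, map_one])
      have h2 : orderOf (QuotientGroup.mk' O a) ∣ orderOf x := by
        rw [← hi, map_zpow, hfx]
        exact (orderOf_dvd_of_pow_eq_one (by rw [← zpow_natCast, ← zpow_mul, mul_comm, zpow_mul,
          zpow_natCast, pow_orderOf_eq_one, one_zpow])).trans (orderOf_map_dvd _ _)
      exact Nat.dvd_one.1 (((Nat.Coprime.pow_right k hx).symm).gcd_eq_one ▸ Nat.dvd_gcd h1 h2)
    rw [SetLike.mem_coe, ← hx', ← hab]
    exact mul_mem (mem_sup_left (mul_mem (hfix a (hN a haz) haO) hbC)) (mem_sup_right ho)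
  obtain ⟨c, t, hcn, -, htS, -, hmove⟩ := d.ctr.exists_moving d.S
  have hcM : c ∈ d.M := d.norm_le hcn
  obtain ⟨u, hu, o, ho, huo⟩ := mem_sup_of_normal_right.1
    (hle2 (hgen.symm ▸ mem_top (⟨c, hcM⟩ : ↥d.M)))
  apply hmove
  have huN : (u : G) ∈ normalizer ((d.S : Subgroup G) : Set G) := centralizer_le_normalizer _ hu
  have hon : (o : G) ∈ normalizer ((d.S : Subgroup G) : Set G) := by
    have e : (u : G) * o = c := congrArg Subtype.val huo
    rw [show (o : G) = (u : G)⁻¹ * c by rw [← e]; group]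
    exact mul_mem (inv_mem huN) hcn
  have hcC : c ∈ centralizer ((d.S : Subgroup G) : Set G) := by
    have e : (u : G) * o = c := congrArg Subtype.val huo
    rw [← e]
    exact mul_mem hu (hfix o hon ho)
  rw [← mem_centralizer_iff.1 hcC t htS, mul_inv_cancel_right]

theorem zJ_ne_bot (P : Sylow p ↥d.M) (hP : (P : Subgroup ↥d.M) ≠ ⊥) :
    ZJ.zJ p False ((P : Subgroup ↥d.M).map d.M.subtype) ≠ ⊥ := by
  haveI : Nontrivial ↥(P : Subgroup ↥d.M) := (Subgroup.nontrivial_iff_ne_bot _).2 hP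
  obtain ⟨z, hz⟩ := @exists_ne _ P.isPGroup'.center_nontrivial 1
  intro e
  have hm := center_le_zJ (p := p) (S := (P : Subgroup ↥d.M).map d.M.subtype) (z := (((z : ↥(P : Subgroup ↥d.M)) : ↥d.M) : G))
    ⟨_, (z : ↥(P : Subgroup ↥d.M)).2, rfl⟩ (by
      rintro _ ⟨y, hy, rfl⟩
      exact congrArg (fun w : ↥(P : Subgroup ↥d.M) => ((w : ↥d.M) : G)) (mem_center_iff.1 z.2 ⟨y, hy⟩))
  rw [e, mem_bot] at hm
  exact hz (Subtype.ext (Subtype.ext (Subtype.ext hm)))

theorem dvd_card_M : p ∣ Nat.card ↥d.M := by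
  obtain ⟨c, t, hc, ⟨k, hck⟩, -, -, hmove⟩ := d.ctr.exists_moving d.S
  have hk0 : orderOf c ≠ 1 := fun e => hmove (by rw [orderOf_eq_one_iff.1 e]; group)
  obtain ⟨j, -, hj⟩ := (Nat.dvd_prime_pow hp.out).1 (orderOf_dvd_of_pow_eq_one hck)
  have hj0 : j ≠ 0 := fun e => hk0 (by rw [hj, e, pow_zero])
  refine (hj ▸ dvd_pow_self p hj0 : p ∣ orderOf c).trans ?_
  have := orderOf_dvd_natCard (⟨c, d.norm_le hc⟩ : ↥d.M)
  rwa [orderOf_mk] at this

/-- The involutions of `S` generate a normal subgroup of `M`. -/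
theorem E_normal : ∀ m ∈ d.M, ∀ e ∈ d.E, m * e * m⁻¹ ∈ d.E := by
  haveI := Fact.mk Nat.prime_two
  haveI := d.ctr.proper d.M d.ne_top
  haveI := FittingCores.pPrimeCore_normal (G := ↥d.M) p
  set A := Cfsg.pPrimeCore p ↥d.M with hA
  have hAG : (Nat.card ↥(A.map d.M.subtype)).Coprime p := by
    rw [card_map_of_injective d.M.subtype_injective]; exact FittingCores.pPrimeCore_coprime p
  by_cases h2 : 2 ∣ Nat.card ↥A
  · -- `A` is abelian and contains an involution: all involutions of `M` lie in `A`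
    obtain ⟨a, ha⟩ := exists_prime_orderOf_dvd_card' (G := ↥A) 2 h2
    have hao : orderOf (((a : ↥A) : ↥d.M) : G) = 2 := by rw [Subgroup.orderOf_coe, Subgroup.orderOf_coe, ha]
    obtain ⟨m₀, hm₀, hE₀⟩ := d.exists_conj_E hao (SetLike.coe_mem _)
    set a' : G := m₀ * (((a : ↥A) : ↥d.M) : G) * m₀⁻¹ with ha'
    have hconjA : ∀ m ∈ d.M, ∀ y ∈ A.map d.M.subtype, m * y * m⁻¹ ∈ A.map d.M.subtype := by
      rintro m hm _ ⟨y, hy, rfl⟩
      exact ⟨_, (inferInstance : A.Normal).conj_mem y hy ⟨m, hm⟩, rfl⟩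
    have ha'A : a' ∈ A.map d.M.subtype := hconjA m₀ hm₀ _ ⟨_, a.2, rfl⟩
    have ha'1 : a' ≠ 1 := Invol.ne_one (by rw [ha', order_conj, hao])
    have hEA : d.E ≤ A.map d.M.subtype := by
      intro e he
      by_cases he1 : e = 1
      · rw [he1]; exact one_mem _
      obtain ⟨n, hn, hne⟩ := d.transitive hE₀ ha'1 he he1
      rw [← hne]
      exact hconjA n (d.norm_le hn) _ ha'A
    intro m hm e he
    have hme : m * e * m⁻¹ ∈ A.map d.M.subtype := hconjA m hm e (hEA he)
    -- it commutes with `S ∩ A`, and lies in a Sylow subgroup with it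
    by_cases he1 : e = 1
    · simp [he1, one_mem]
    have hord : orderOf (m * e * m⁻¹) = 2 := by rw [order_conj, d.order_E he he1]
    obtain ⟨T⟩ := (inferInstance : Nonempty (Sylow 2 ↥(A.map d.M.subtype)))
    haveI : IsMulCommutative ↥(A.map d.M.subtype) := (d.ctr.good _ hAG).1
    haveI : (T : Subgroup ↥(A.map d.M.subtype)).Normal := normal_of_isMulCommutative _
    haveI := Sylow.unique_of_normal T inferInstance
    have hmem : ∀ y ∈ A.map d.M.subtype, y * y = 1 →
        y ∈ (T : Subgroup ↥(A.map d.M.subtype)).map (A.map d.M.subtype).subtype := by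
      intro y hy hy2
      have hyp : IsPGroup 2 (zpowers (⟨y, hy⟩ : ↥(A.map d.M.subtype))) :=
        IsPGroup.of_card_dvd_pow (n := 1) ?_
      · obtain ⟨T', hT'⟩ := hyp.exists_le_sylow
        rw [Subsingleton.elim T' T] at hT'
        exact ⟨_, hT' (mem_zpowers _), rfl⟩
      · rw [Nat.card_zpowers, orderOf_mk, pow_one]
        exact orderOf_dvd_of_pow_eq_one (by rw [pow_two, hy2])
    set U := (T : Subgroup ↥(A.map d.M.subtype)).map (A.map d.M.subtype).subtype with hU
    have hUp : IsPGroup 2 U := T.isPGroup'.map _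
    have hUM : U ≤ d.M := (map_subtype_le _).trans (map_subtype_le _)
    have hUn : ∀ g ∈ d.M, g ∈ normalizer (U : Set G) := fun g hg => mem_normalizer_fintype fun y hy => by
      obtain ⟨k, hk⟩ := hUp ⟨y, hy⟩
      have hk' : y ^ 2 ^ k = 1 := congrArg Subtype.val hk
      have hgy : g * y * g⁻¹ ∈ A.map d.M.subtype := hconjA g hg y (map_subtype_le _ hy)
      have hyp : IsPGroup 2 (zpowers (⟨g * y * g⁻¹, hgy⟩ : ↥(A.map d.M.subtype))) :=
        IsPGroup.of_card_dvd_pow (n := k) (by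
          rw [Nat.card_zpowers, orderOf_mk]
          exact orderOf_dvd_of_pow_eq_one (by rw [_root_.conj_pow, hk']; group))
      obtain ⟨T', hT'⟩ := hyp.exists_le_sylow
      rw [Subsingleton.elim T' T] at hT'
      exact ⟨_, hT' (mem_zpowers _), rfl⟩
    haveI hUnorm : (U.subgroupOf d.M).Normal := ⟨fun y hy g => by
      exact (mem_normalizer_iff.1 (hUn g g.2) _).1 hy⟩
    have hUS : U.subgroupOf d.M ≤ ((d.S.subtype d.S_le : Sylow 2 ↥d.M) : Subgroup ↥d.M) :=
      (FittingCores.le_pCore hUnorm hUp.comap_subtype).trans (FittingCores.pCore_le_sylow _)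
    have hme2 : m * e * m⁻¹ * (m * e * m⁻¹) = 1 := Invol.mul_self hord
    have hinS := hUS (show (⟨m * e * m⁻¹, mul_mem (mul_mem hm (d.E_le_M he)) (inv_mem hm)⟩ : ↥d.M) ∈
      U.subgroupOf d.M from hmem _ hme hme2)
    rw [Sylow.coe_subtype, mem_subgroupOf] at hinS
    exact ⟨hinS, hme2⟩
  · -- otherwise `N_M(Z(J(P)))` contains a Sylow 2-subgroup of `M`
    exfalso
    obtain ⟨P⟩ := (inferInstance : Nonempty (Sylow p ↥d.M))
    have hP0 : (P : Subgroup ↥d.M) ≠ ⊥ := P.ne_bot_of_dvd_card d.dvd_card_M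
    apply d.not_normalizer_zJ_le P
    set f := QuotientGroup.mk' A with hf
    have hfs : Function.Surjective f := QuotientGroup.mk'_surjective _
    have hker : (Nat.card f.ker).Coprime p := by
      rw [hf, QuotientGroup.ker_mk']; exact FittingCores.pPrimeCore_coprime p
    have hinj : Set.InjOn f (P : Subgroup ↥d.M) := CoprimeQuotient.injOn_of_coprime_ker f hker P.isPGroup'
    have hq : ZJ.IsQuad p (↥d.M ⧸ A) := PStable.isQuad_of_not_involves_sl2 d.ctr.p_ne_two fun hX =>
      d.ctr.not_involves (PStable.involves_of_subgroup (PStable.involves_of_quotient f hfs hX))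
    have hn := ZJ.zJ_normal d.ctr.p_ne_two hq
      (FittingCores.centralizer_pCore_le hp.out (Components.pPrimeCore_quotient ↥d.M)) (P.mapSurjective hfs) False
    rw [Sylow.coe_mapSurjective, ← ZJ.zJ_map f hinj] at hn
    set Z := ZJ.zJ p False (P : Subgroup ↥d.M) with hZ
    have h1 : (normalizer (Z : Set ↥d.M)).map f = ⊤ := by
      rw [← CoprimeQuotient.normalizer_map f hfs hker (P.isPGroup'.to_le (ZJ.zJ_le _)),
        normalizer_eq_top_iff]
      exact hn
    have hidx : ¬ 2 ∣ (normalizer (Z : Set ↥d.M)).index := by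
      intro hd
      have e := congrArg (comap f) h1
      rw [comap_map_eq, comap_top, hf, QuotientGroup.ker_mk', sup_comm] at e
      have h3 := relIndex_sup_right (normalizer (Z : Set ↥d.M)) A
      rw [sup_comm, e, relIndex_top_right] at h3
      have hA2 : (normalizer (Z : Set ↥d.M)).index ∣ Nat.card ↥A := by
        have h4 := (normalizer (Z : Set ↥d.M)).card_mul_index
        have h5 := A.card_mul_index
        rw [h3] at h5
        have h6 : Nat.card ↥(normalizer (Z : Set ↥d.M)) = A.relIndex (normalizer (Z : Set ↥d.M)) *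
            Nat.card ↥(A ⊓ normalizer (Z : Set ↥d.M)) := by
          rw [← relIndex_bot_left, ← relIndex_bot_left, mul_comm,
            ← inf_relIndex_right A, relIndex_mul_relIndex _ _ _ bot_le inf_le_right]
        have hpos : 0 < A.relIndex (normalizer (Z : Set ↥d.M)) :=
          Nat.pos_of_ne_zero fun e0 => by rw [e0, zero_mul] at h6; exact Nat.card_pos.ne' h6
        rw [h6, ← h5, mul_assoc, mul_comm (Nat.card ↥A) (A.relIndex _)] at h4
        exact ⟨_, (Nat.eq_of_mul_eq_mul_left hpos h4).symm.trans (mul_comm _ _)⟩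
      exact h2 (hd.trans hA2)
    obtain ⟨T⟩ := (inferInstance : Nonempty (Sylow 2 ↥(normalizer (Z : Set ↥d.M))))
    have hTi : ¬ 2 ∣ ((T : Subgroup ↥(normalizer (Z : Set ↥d.M))).map (normalizer (Z : Set ↥d.M)).subtype).index := by
      rw [index_map_subtype]
      exact fun hd => (Nat.prime_two.dvd_mul.1 hd).elim T.not_dvd_index hidx
    let T' : Sylow 2 ↥d.M := (T.isPGroup'.map (normalizer (Z : Set ↥d.M)).subtype).toSylow hTi
    obtain ⟨m, hm⟩ := MulAction.exists_smul_eq ↥d.M (d.S.subtype d.S_le) T'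
    have hin : ∀ t ∈ d.E, (m : G) * t * (m : G)⁻¹ ∈ (normalizer (Z : Set ↥d.M)).map d.M.subtype := by
      intro t ht
      have h1 : m * ⟨t, d.E_le_M ht⟩ * m⁻¹ ∈ (T' : Subgroup ↥d.M) := by
        rw [← hm, Sylow.coe_subgroup_smul]
        refine smul_mem_pointwise_smul _ (MulAut.conj m) _ ?_
        rw [Sylow.coe_subtype, mem_subgroupOf]
        exact ht.1
      rw [IsPGroup.toSylow_coe] at h1
      exact ⟨_, map_subtype_le _ h1, rfl⟩
    have hZmap : Z.map d.M.subtype = ZJ.zJ p False ((P : Subgroup ↥d.M).map d.M.subtype) := by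
      rw [hZ]; exact ZJ.zJ_map _ d.M.subtype_injective.injOn
    have hNle : (normalizer (Z : Set ↥d.M)).map d.M.subtype ≤
        normalizer ((ZJ.zJ p False ((P : Subgroup ↥d.M).map d.M.subtype) : Subgroup G) : Set G) := by
      rw [← hZmap]; exact le_normalizer_map _
    obtain ⟨a, ha, b, hb, hao, hbo, hab⟩ := d.exists_pair
    refine d.le_of_pair (d.ctr.normalizer_ne_top (d.zJ_ne_bot P hP0) ?_)
      (a := (m : G) * a * (m : G)⁻¹) (b := (m : G) * b * (m : G)⁻¹) (by rw [order_conj, hao])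
      (by rw [order_conj, hbo]) (fun e => hab (mul_left_cancel (mul_right_cancel e))) ?_
      (hNle (hin a ha)) (hNle (hin b hb))
      (mul_mem (mul_mem m.2 (d.E_le_M ha)) (inv_mem m.2)) (mul_mem (mul_mem m.2 (d.E_le_M hb)) (inv_mem m.2))
    · exact ne_top_of_le_ne_top d.ne_top ((ZJ.zJ_le _).trans (map_subtype_le _))
    · rw [show (m : G) * a * (m : G)⁻¹ * ((m : G) * b * (m : G)⁻¹) = (m : G) * (a * b) * (m : G)⁻¹ by group,
        d.E_comm ha hb]
      group

/-- Every involution of `M` lies in `E`. -/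
theorem invol_mem_E {u : G} (hu : orderOf u = 2) (huM : u ∈ d.M) : u ∈ d.E := by
  obtain ⟨m, hm, hme⟩ := d.exists_conj_E hu huM
  have := d.E_normal m⁻¹ (inv_mem hm) _ hme
  simpa [mul_assoc] using this

/-- `C(E)` lies in `M`. -/
theorem centralizer_E_le : centralizer (d.E : Set G) ≤ d.M := by
  obtain ⟨a, ha, -, -, hao, -, -⟩ := d.exists_pair
  exact fun x hx => se_centralizer_le d.se hao (d.E_le_M ha)
    (mem_centralizer_singleton_iff.2 (mem_centralizer_iff.1 hx a ha).symm)

/-- An element of `C(E)` in another conjugate of `M` is trivial. -/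
theorem inter_centralizer {g z : G} (hg : g ∉ d.M) (hz : z ∈ centralizer (d.E : Set G))
    (hzg : g⁻¹ * z * g ∈ d.M) : z = 1 := by
  -- an involution `w` mapping `M` to `gM`
  have hcard := card_swapInv (H := d.M) d.se (x := ((1 : G) : G ⧸ d.M)) (y := (g : G ⧸ d.M))
    (fun e => hg (by simpa using QuotientGroup.eq.1 e))
  have hpos : 0 < Nat.card (SwapInv ((1 : G) : G ⧸ d.M) (g : G ⧸ d.M)) := by
    rw [hcard]
    obtain ⟨a, ha, -, -, hao, -, -⟩ := d.exists_pair
    exact Nat.card_pos_iff.2 ⟨⟨⟨a, hao, d.E_le_M ha⟩⟩, inferInstance⟩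
  obtain ⟨⟨w, hw, hwg⟩⟩ := (Nat.card_pos_iff.1 hpos).1
  rw [MulAction.Quotient.smul_mk, QuotientGroup.eq, smul_eq_mul, mul_one, Invol.inv_self hw] at hwg
  have hwM : w ∉ d.M := fun hm => hg (by
    have := mul_mem (inv_mem hm) hwg
    simpa [← mul_assoc, Invol.inv_self hw, Invol.mul_self hw] using this)
  have hzM : z ∈ d.M := d.centralizer_E_le hz
  have hzw : w * z * w ∈ d.M := by
    have := mul_mem (mul_mem hwg hzg) (inv_mem hwg)
    simpa [mul_assoc, Invol.inv_self hw] using this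
  set z' := w * z * w with hz'
  have hwz' : w * z' * w⁻¹ = z := by
    rw [hz', Invol.inv_self hw, show w * (w * z * w) * w = (w * w) * z * (w * w) by group,
      Invol.mul_self hw]
    simp
  obtain ⟨a, ha, b, hb, hao, hbo, hab⟩ := d.exists_pair
  have conjE : ∀ t, orderOf t = 2 → t ∈ d.M → w * t * w⁻¹ ∉ d.M := fun t ht htM hh =>
    hwM (se_mem_of_conj d.se ht htM hh)
  -- `C(E)` meets its conjugate under `w` trivially
  have key : ∀ y, y ∈ centralizer (d.E : Set G) → w * y * w⁻¹ ∈ centralizer (d.E : Set G) → y = 1 := by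
    intro y hy hy'
    by_contra hy1
    have hle := d.le_of_pair (d.ctr.centralizer_ne_top hy1) hao hbo hab (d.E_comm ha hb)
      (mem_centralizer_singleton_iff.2 (mem_centralizer_iff.1 hy a ha))
      (mem_centralizer_singleton_iff.2 (mem_centralizer_iff.1 hy b hb)) (d.E_le_M ha) (d.E_le_M hb)
    refine conjE a hao (d.E_le_M ha) (hle (mem_centralizer_singleton_iff.2 ?_))
    have := mem_centralizer_iff.1 hy' a ha
    rw [Invol.inv_self hw] at this ⊢
    calc w * a * w * y = w * (a * (w * y * w)) * w := by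
          rw [show w * (a * (w * y * w)) * w = w * a * w * y * (w * w) by group, Invol.mul_self hw, mul_one]
      _ = w * (w * y * w * a) * w := by rw [this]
      _ = y * (w * a * w) := by
          rw [show w * (w * y * w * a) * w = (w * w) * y * (w * a * w) by group, Invol.mul_self hw, one_mul]
  have hCnorm : ∀ m ∈ d.M, ∀ y ∈ centralizer (d.E : Set G), m * y * m⁻¹ ∈ centralizer (d.E : Set G) := by
    intro m hm y hy
    rw [mem_centralizer_iff]
    intro e he
    have h1 := d.E_normal m⁻¹ (inv_mem hm) e he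
    rw [inv_inv] at h1
    have h2 := mem_centralizer_iff.1 hy _ h1
    calc e * (m * y * m⁻¹) = m * (m⁻¹ * e * m * y) * m⁻¹ := by group
      _ = m * (y * (m⁻¹ * e * m)) * m⁻¹ := by rw [h2]
      _ = m * y * m⁻¹ * e := by group
  -- `z` and `z'` commute
  have hcomm : z * z' = z' * z := by
    set q := z * z' * z⁻¹ * z'⁻¹ with hq
    have h1 : q ∈ centralizer (d.E : Set G) := by
      rw [hq, show z * z' * z⁻¹ * z'⁻¹ = z * (z' * z⁻¹ * z'⁻¹) by group]
      exact mul_mem hz (hCnorm z' hzw _ (inv_mem hz))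
    have h2 : w * q * w⁻¹ ∈ centralizer (d.E : Set G) := by
      have e : w * q * w⁻¹ = z' * z * z'⁻¹ * z⁻¹ := by
        rw [hq, show w * (z * z' * z⁻¹ * z'⁻¹) * w⁻¹ = w * z * w⁻¹ * (w * z' * w⁻¹) * (w * z * w⁻¹)⁻¹ *
          (w * z' * w⁻¹)⁻¹ by group, hwz', hz', Invol.inv_self hw]
      rw [e]
      exact mul_mem (hCnorm z' hzw z hz) (inv_mem hz)
    have := key q h1 h2
    rw [hq, mul_inv_eq_one, mul_inv_eq_iff_eq_mul] at this
    exact this
  set f := z * z' with hf
  have hwf : w * f * w⁻¹ = f := by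
    rw [hf, show w * (z * z') * w⁻¹ = w * z * w⁻¹ * (w * z' * w⁻¹) by group, hwz', Invol.inv_self hw,
      ← hz']
    exact hcomm.symm
  -- `w` lies in a conjugate of `M`
  obtain ⟨k, hk⟩ := isConj_iff.1 (se_isConj d.se hao hw)
  set f' := k⁻¹ * f * k with hf'
  have hf'M : f' ∈ d.M := by
    refine se_centralizer_le d.se hao (d.E_le_M ha) (mem_centralizer_singleton_iff.2 ?_)
    have hwf' : w * f = f * w := mul_inv_eq_iff_eq_mul.1 hwf
    rw [← hk] at hwf'
    calc f' * a = k⁻¹ * (f * (k * a * k⁻¹)) * k := by rw [hf']; group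
      _ = k⁻¹ * (k * a * k⁻¹ * f) * k := by rw [hwf']
      _ = a * f' := by rw [hf']; group
  by_contra hz1
  have hf1 : f ≠ 1 := by
    intro e
    have hz'i : z' = z⁻¹ := eq_inv_of_mul_eq_one_right e
    apply hz1
    refine key z hz ?_
    rw [Invol.inv_self hw, ← hz', hz'i]
    exact inv_mem hz
  have hf'1 : f' ≠ 1 := fun e => hf1 (by
    rw [show f = k * f' * k⁻¹ by rw [hf']; group, e]; group)
  have hgw : g⁻¹ * f * g ∈ d.M := by
    have hfM : f ∈ d.M := mul_mem hzM hzw
    have h1 : w * f * w = f := by rwa [Invol.inv_self hw] at hwf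
    have := mul_mem (mul_mem (inv_mem hwg) hfM) hwg
    rwa [mul_inv_rev, Invol.inv_self hw, show g⁻¹ * w * f * (w * g) = g⁻¹ * (w * f * w) * g by group,
      h1] at this
  obtain ⟨j, hj⟩ := d.inter_pow hg (mul_mem hzM hzw) hgw
  have hf'p : ∃ i, f' ^ p ^ i = 1 := ⟨j, by
    have h1 := conj_pow (a := k⁻¹) (b := f) (i := p ^ j)
    rw [inv_inv] at h1
    rw [hf', h1, hj]; group⟩
  have hfix : ∀ e ∈ d.E, f' * e * f'⁻¹ = e := by
    refine d.centralises_E hf'p (fun e he => d.E_normal f' hf'M e he) ha (Invol.ne_one hao) ?_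
    have hwf' : w * f = f * w := mul_inv_eq_iff_eq_mul.1 hwf
    rw [← hk] at hwf'
    calc f' * a * f'⁻¹ = k⁻¹ * (f * (k * a * k⁻¹)) * f⁻¹ * k := by rw [hf']; group
      _ = k⁻¹ * (k * a * k⁻¹ * f) * f⁻¹ * k := by rw [hwf']
      _ = a := by group
  have hCf : centralizer ({f'} : Set G) ≤ d.M :=
    d.le_of_pair (d.ctr.centralizer_ne_top hf'1) hao hbo hab (d.E_comm ha hb)
      (mem_centralizer_singleton_iff.2 (mul_inv_eq_iff_eq_mul.1 (hfix a ha)).symm)
      (mem_centralizer_singleton_iff.2 (mul_inv_eq_iff_eq_mul.1 (hfix b hb)).symm)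
      (d.E_le_M ha) (d.E_le_M hb)
  have hmemC : ∀ y, y * f = f * y → k⁻¹ * y * k ∈ d.M := fun y hy => hCf (by
    rw [mem_centralizer_singleton_iff, hf',
      show k⁻¹ * y * k * (k⁻¹ * f * k) = k⁻¹ * (y * f) * k by group, hy]
    group)
  have hzk : k⁻¹ * z * k ∈ d.M := hmemC z (calc
    z * f = z * (z' * z) := by rw [← hcomm]
    _ = f * z := by rw [hf]; group)
  -- so `w` fixes the commutator `[w, z]` into `E ∩ C(E)`-cosets
  have hwk : a = k⁻¹ * w * k := by rw [← hk]; group
  have hcE : a * (k⁻¹ * z * k) * a⁻¹ * (k⁻¹ * z * k)⁻¹ ∈ d.E := by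
    rw [show a * (k⁻¹ * z * k) * a⁻¹ * (k⁻¹ * z * k)⁻¹ =
      a * ((k⁻¹ * z * k) * a⁻¹ * (k⁻¹ * z * k)⁻¹) by group]
    exact mul_mem ha (d.E_normal _ hzk _ (inv_mem ha))
  have hzero : a * (k⁻¹ * z * k) * a⁻¹ * (k⁻¹ * z * k)⁻¹ = k⁻¹ * (w * z * w⁻¹ * z⁻¹) * k := by
    rw [hwk]; group
  have h2 : (w * z * w⁻¹ * z⁻¹) * (w * z * w⁻¹ * z⁻¹) = 1 := by
    have := hcE.2
    rw [hzero] at this
    have h3 : k⁻¹ * ((w * z * w⁻¹ * z⁻¹) * (w * z * w⁻¹ * z⁻¹)) * k = 1 := by
      rw [← this]; group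
    have h4 := congrArg (fun x => k * x * k⁻¹) h3
    simpa [mul_assoc] using h4
  obtain ⟨i, hi⟩ := d.inter_pow hg (x := w * z * w⁻¹ * z⁻¹)
    (by rw [Invol.inv_self hw, ← hz']; exact mul_mem hzw (inv_mem hzM)) (by
    rw [Invol.inv_self hw, ← hz']
    have h1 : w * z' * w ∈ d.M := by rw [Invol.inv_self hw] at hwz'; rw [hwz']; exact hzM
    have h5 := mul_mem (mul_mem (inv_mem hwg) hzM) hwg
    rw [mul_inv_rev, Invol.inv_self hw, show g⁻¹ * w * z * (w * g) = g⁻¹ * (w * z * w) * g by group,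
      ← hz'] at h5
    have h6 := mul_mem h5 (inv_mem hzg)
    rwa [show g⁻¹ * z' * g * (g⁻¹ * z * g)⁻¹ = g⁻¹ * (z' * z⁻¹) * g by group] at h6)
  have h1 : w * z * w⁻¹ * z⁻¹ = 1 := by
    rw [← orderOf_eq_one_iff]
    have e2 : orderOf (w * z * w⁻¹ * z⁻¹) ∣ 2 := orderOf_dvd_of_pow_eq_one (by rw [pow_two]; exact h2)
    have e3 := orderOf_dvd_of_pow_eq_one hi
    exact Nat.dvd_one.1 ((d.ctr.two_coprime.pow_right i).gcd_eq_one ▸ Nat.dvd_gcd e2 e3)
  refine hz1 (key z hz ?_)
  rw [mul_inv_eq_one] at h1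
  rw [h1]
  exact hz

/-- `C(E)` has order prime to `p`. -/
theorem centralizer_E_coprime (x : G) (hx : x ∈ centralizer (d.E : Set G)) {k : ℕ} (hk : x ^ p ^ k = 1) :
    x = 1 := by
  by_contra hx1
  have hxM := d.centralizer_E_le hx
  have hXp : IsPGroup p (zpowers (⟨x, hxM⟩ : ↥d.M)) := IsPGroup.of_card_dvd_pow (n := k) (by
    rw [Nat.card_zpowers, orderOf_mk]; exact orderOf_dvd_of_pow_eq_one hk)
  obtain ⟨P, hP⟩ := hXp.exists_le_sylow
  have hP0 : (P : Subgroup ↥d.M) ≠ ⊥ := fun e => by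
    have hm := hP (mem_zpowers (⟨x, hxM⟩ : ↥d.M))
    rw [e, mem_bot] at hm
    exact hx1 (congrArg Subtype.val hm)
  set PG := (P : Subgroup ↥d.M).map d.M.subtype
  have hxP : x ∈ PG := ⟨⟨x, hxM⟩, hP (mem_zpowers _), rfl⟩
  set N := PG ⊓ centralizer (d.E : Set G) with hN
  have hPGp : IsPGroup p ↥PG := P.isPGroup'.map _
  haveI : (N.subgroupOf PG).Normal := ⟨fun n hn g => by
    refine mem_subgroupOf.2 (mem_inf.2 ⟨mul_mem (mul_mem g.2 (mem_inf.1 (mem_subgroupOf.1 hn)).1) (inv_mem g.2), ?_⟩)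
    rw [mem_centralizer_iff]
    intro e he
    have h1 := d.E_normal _ (inv_mem (map_subtype_le _ g.2)) e he
    rw [inv_inv] at h1
    have h2 := mem_centralizer_iff.1 (mem_inf.1 (mem_subgroupOf.1 hn)).2 _ h1
    calc e * ((g : G) * (n : G) * (g : G)⁻¹) = g * ((g : G)⁻¹ * e * g * n) * (g : G)⁻¹ := by group
      _ = g * ((n : G) * ((g : G)⁻¹ * e * g)) * (g : G)⁻¹ := by rw [h2]
      _ = (g : G) * n * (g : G)⁻¹ * e := by group⟩
  haveI : Nontrivial ↥(N.subgroupOf PG) := by
    rw [Subgroup.nontrivial_iff_ne_bot]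
    intro e
    have hm : (⟨x, hxP⟩ : ↥PG) ∈ N.subgroupOf PG := mem_subgroupOf.2 ⟨hxP, hx⟩
    rw [e, mem_bot] at hm
    exact hx1 (congrArg Subtype.val hm)
  have hne : N.subgroupOf PG ⊓ center ↥PG ≠ ⊥ := inf_center_ne_bot hPGp ((Subgroup.nontrivial_iff_ne_bot _).1 inferInstance)
  obtain ⟨z, hz, hz1⟩ := (bot_or_exists_ne_one _).resolve_left hne
  have hzZ : (z : G) ∈ ZJ.zJ p False PG := center_le_zJ z.2 fun y hy =>
    congrArg Subtype.val (mem_center_iff.1 (mem_inf.1 hz).2 ⟨y, hy⟩)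
  obtain ⟨g, hg, hgM⟩ := SetLike.not_le_iff_exists.1 (d.not_normalizer_zJ_le P)
  apply hz1
  refine Subtype.ext (d.inter_centralizer hgM (mem_inf.1 (mem_subgroupOf.1 (mem_inf.1 hz).1)).2 ?_)
  exact map_subtype_le _ (ZJ.zJ_le _ ((mem_normalizer_iff''.1 hg (z : G)).1 hzZ))

include d in
/-- The centralizer of an involution is abelian. -/
theorem centralizer_comm {t : G} (ht : orderOf t = 2) {x y : G}
    (hx : x ∈ centralizer ({t} : Set G)) (hy : y ∈ centralizer ({t} : Set G)) : x * y = y * x := by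
  obtain ⟨a, ha, -, -, hao, -, -⟩ := d.exists_pair
  obtain ⟨k, hk⟩ := isConj_iff.1 (se_isConj d.se hao ht)
  have hmove : ∀ z ∈ centralizer ({t} : Set G), k⁻¹ * z * k ∈ centralizer (d.E : Set G) := by
    intro z hz
    set z' := k⁻¹ * z * k with hz'
    have hza : z' * a = a * z' := by
      have h := mem_centralizer_singleton_iff.1 hz
      rw [← hk] at h
      calc z' * a = k⁻¹ * (z * (k * a * k⁻¹)) * k := by rw [hz']; group
        _ = k⁻¹ * (k * a * k⁻¹ * z) * k := by rw [h]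
        _ = a * z' := by rw [hz']; group
    have hzM : z' ∈ d.M := se_centralizer_le d.se hao (d.E_le_M ha) (mem_centralizer_singleton_iff.2 hza)
    obtain ⟨u, v, hu, hv, huv, -, huz, hvz⟩ := exists_parts (p := p) z'
    have huM : u ∈ d.M := zpowers_le.2 hzM huz
    have hvM : v ∈ d.M := zpowers_le.2 hzM hvz
    have hEp : IsPGroup 2 d.E := d.S.isPGroup'.to_le d.E_le
    have hvC : v ∈ centralizer (d.E : Set G) := d.ctr.good.centralises hv (d.ctr.coprime_of_two _ hEp)
      (mem_normalizer_fintype fun e he => d.E_normal v hvM e he)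
    have huC : u ∈ centralizer (d.E : Set G) := by
      have hua : u * a * u⁻¹ = a := by
        obtain ⟨i, rfl⟩ := mem_zpowers_iff.1 huz
        rw [((show Commute z' a from hza).zpow_left i).eq, mul_inv_cancel_right]
      have := d.centralises_E hu (fun e he => d.E_normal u huM e he) ha (Invol.ne_one hao) hua
      exact mem_centralizer_iff.2 fun e he => (mul_inv_eq_iff_eq_mul.1 (this e he)).symm
    rw [← huv]
    exact mul_mem huC hvC
  have hcop : (Nat.card ↥(centralizer (d.E : Set G))).Coprime p := by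
    rw [Nat.coprime_comm, hp.out.coprime_iff_not_dvd]
    intro hd
    obtain ⟨z, hz⟩ := exists_prime_orderOf_dvd_card' (G := ↥(centralizer (d.E : Set G))) p hd
    have h1 := d.centralizer_E_coprime z z.2 (k := 1) (by
      have h3 := pow_orderOf_eq_one z
      rw [hz] at h3
      rw [pow_one]
      exact congrArg Subtype.val h3)
    have h2 : z = 1 := Subtype.ext h1
    rw [h2, orderOf_one] at hz
    exact hp.out.ne_one hz.symm
  have h := d.ctr.good.comm hcop (hmove x hx) (hmove y hy)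
  calc x * y = k * (k⁻¹ * x * k * (k⁻¹ * y * k)) * k⁻¹ := by group
    _ = k * (k⁻¹ * y * k * (k⁻¹ * x * k)) * k⁻¹ := by rw [h]
    _ = y * x := by group

end Emb

end Cfsg.Agent.AbPPrime
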