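import Cfsg.Agent.Lib.AbPPrime.Setting
import Cfsg.Agent.Lib.Solvable.Coprime
import Cfsg.Agent.Lib.LocalEven.Basic
import Cfsg.Agent.Lib.Involutions.SwapCount

/-!
The strongly embedded subgroup: proper subgroups with a four-group of `M` lie in `M`, centralizers of
`p'`-elements of `M` lie in `M`, and the normaliser of a Sylow 2-subgroup induces a group of order `p` on
its involutions, `p + 1` being their number plus one.
-/

set_option autoImplicit false
set_option linter.style.haveILetI false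
set_option linter.unusedSectionVars false

namespace Cfsg.Agent.AbPPrime

open Subgroup Cfsg.Agent.Invol
open scoped Pointwise

universe u

variable {G : Type u} [Group G] [Finite G] {p : ℕ} [hp : Fact p.Prime]

namespace Emb

variable (d : Emb p G)

/-- The elementary part of the Sylow 2-subgroup. -/
def E : Subgroup G := omega (d.S : Subgroup G) (d.ctr.sylow_comm d.S)

theorem E_le : d.E ≤ (d.S : Subgroup G) := fun _ hx => hx.1

theorem S_le : (d.S : Subgroup G) ≤ d.M := le_normalizer.trans d.norm_le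

theorem E_le_M : d.E ≤ d.M := d.E_le.trans d.S_le

theorem order_E {t : G} (ht : t ∈ d.E) (h1 : t ≠ 1) : orderOf t = 2 := order_two_of_sq ht.2 h1

theorem E_comm {a b : G} (ha : a ∈ d.E) (hb : b ∈ d.E) : a * b = b * a :=
  d.ctr.sylow_comm d.S a ha.1 b hb.1

theorem eight : 8 ≤ Nat.card ↥d.E := d.ctr.eight_le d.S

theorem exists_pair : ∃ a ∈ d.E, ∃ b ∈ d.E, orderOf a = 2 ∧ orderOf b = 2 ∧ a ≠ b := by
  haveI : Fintype ↥d.E := Fintype.ofFinite _
  have h8 := d.eight
  rw [Nat.card_eq_fintype_card] at h8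
  obtain ⟨a, ha⟩ := Fintype.exists_ne_of_one_lt_card (by omega) (1 : ↥d.E)
  obtain ⟨b, hb1, hb2⟩ : ∃ b : ↥d.E, b ≠ 1 ∧ b ≠ a := by
    classical
    by_contra hno
    push_neg at hno
    have : (Finset.univ : Finset ↥d.E) ⊆ {1, a} := fun b _ => by
      by_cases e : b = 1
      · simp [e]
      · simp [hno b e]
    have := Finset.card_le_card this
    rw [Finset.card_univ] at this
    have := Finset.card_le_two (a := (1 : ↥d.E)) (b := a)
    omega
  exact ⟨a, a.2, b, b.2, d.order_E a.2 (fun e => ha (Subtype.ext e)),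
    d.order_E b.2 (fun e => hb1 (Subtype.ext e)), fun e => hb2 (Subtype.ext e.symm)⟩

/-- An involution of `M` is conjugate in `M` into `E`. -/
theorem exists_conj_E {t : G} (ht : orderOf t = 2) (htM : t ∈ d.M) :
    ∃ m ∈ d.M, m * t * m⁻¹ ∈ d.E := by
  haveI := Fact.mk Nat.prime_two
  have hT : IsPGroup 2 (zpowers (⟨t, htM⟩ : d.M)) :=
    IsPGroup.of_card (n := 1) (by rw [Nat.card_zpowers, orderOf_mk, ht, pow_one])
  obtain ⟨T, hT'⟩ := hT.exists_le_sylow
  obtain ⟨m, hm⟩ := MulAction.exists_smul_eq ↥d.M T (d.S.subtype d.S_le)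
  have hmt : m * ⟨t, htM⟩ * m⁻¹ ∈ ((d.S.subtype d.S_le : Sylow 2 ↥d.M) : Subgroup ↥d.M) := by
    rw [← hm, Sylow.coe_subgroup_smul]
    exact smul_mem_pointwise_smul _ (MulAut.conj m) _ (hT' (mem_zpowers _))
  rw [Sylow.coe_subtype, mem_subgroupOf] at hmt
  refine ⟨m, m.2, hmt, ?_⟩
  rw [show (m : G) * t * (m : G)⁻¹ * ((m : G) * t * (m : G)⁻¹) = (m : G) * (t * t) * (m : G)⁻¹ by group,
    Invol.mul_self ht]
  group

/-- A proper subgroup with two commuting involutions of `M` lies in `M`. -/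
theorem le_of_pair {H : Subgroup G} (hH : H ≠ ⊤) {a b : G} (ha : orderOf a = 2) (hb : orderOf b = 2)
    (hne : a ≠ b) (hab : a * b = b * a) (haH : a ∈ H) (hbH : b ∈ H) (haM : a ∈ d.M) (_hbM : b ∈ d.M) :
    H ≤ d.M := by
  haveI := Fact.mk Nat.prime_two
  have hpz : ∀ x : G, orderOf x = 2 → IsPGroup 2 (zpowers x) := fun x hx =>
    IsPGroup.of_card (n := 1) (by rw [Nat.card_zpowers, hx, pow_one])
  have hbn : zpowers b ≤ normalizer ((zpowers a : Subgroup G) : Set G) :=
    (zpowers_le.2 (mem_centralizer_iff.2 fun y hy => by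
      obtain ⟨i, rfl⟩ := mem_zpowers_iff.1 hy
      exact ((show Commute a b from hab).zpow_left i).eq)).trans (centralizer_le_normalizer _)
  have hR : IsPGroup 2 ↥(zpowers a ⊔ zpowers b) := by
    rw [sup_comm]
    exact (hpz b hb).to_sup_of_normal_right' (hpz a ha) hbn
  obtain ⟨T, hT⟩ := (hR.comap_subtype (K := H)).exists_le_sylow
  set TG := (T : Subgroup ↥H).map H.subtype with hTG
  have hTGp : IsPGroup 2 TG := T.isPGroup'.map _
  have haT : a ∈ TG := ⟨⟨a, haH⟩, hT (mem_sup_left (mem_zpowers a)), rfl⟩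
  have hbT : b ∈ TG := ⟨⟨b, hbH⟩, hT (mem_sup_right (mem_zpowers b)), rfl⟩
  have hTc : ∀ x ∈ TG, ∀ y ∈ TG, x * y = y * x :=
    fun x hx y hy => d.ctr.good.comm (d.ctr.coprime_of_two TG hTGp) hx hy
  have hTM : TG ≤ d.M := fun x hx =>
    se_centralizer_le d.se ha haM (mem_centralizer_singleton_iff.2 (hTc x hx a haT))
  have hTi : ¬ 2 ∣ TG.relIndex H := by
    rw [relIndex, hTG, subgroupOf, comap_map_eq_self_of_injective H.subtype_injective]
    exact T.not_dvd_index
  set K := (Cfsg.pPrimeCore 2 ↥H).map H.subtype with hK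
  set A := omega TG hTc with hA
  have hAc : IsMulCommutative ↥A :=
    .of_setLike_mul_comm fun x hx y hy => hTc x hx.1 y hy.1
  have hAn : ¬ IsCyclic ↥A := by
    intro hc
    classical
    haveI : Fintype ↥A := Fintype.ofFinite _
    have hle := IsCyclic.card_pow_eq_one_le (α := ↥A) (n := 2) two_pos
    have hsub : ({1, ⟨a, haT, Invol.mul_self ha⟩, ⟨b, hbT, Invol.mul_self hb⟩} : Finset ↥A) ⊆
        Finset.univ.filter fun x : ↥A => x ^ 2 = 1 := fun x _ =>
      Finset.mem_filter.2 ⟨Finset.mem_univ _, Subtype.ext (by rw [coe_pow, pow_two]; exact x.2.2)⟩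
    have h3 : ({1, ⟨a, haT, Invol.mul_self ha⟩, ⟨b, hbT, Invol.mul_self hb⟩} : Finset ↥A).card = 3 := by
      rw [Finset.card_eq_three]
      exact ⟨_, _, _, fun e => Invol.ne_one ha (congrArg Subtype.val e).symm,
        fun e => Invol.ne_one hb (congrArg Subtype.val e).symm, fun e => hne (congrArg Subtype.val e), rfl⟩
    have := Finset.card_le_card hsub
    omega
  haveI := hAc
  haveI := FittingCores.pPrimeCore_normal (G := ↥H) 2
  have hAK : A ≤ normalizer (K : Set G) := by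
    refine (show A ≤ H from fun x hx => map_subtype_le _ hx.1).trans ?_
    rw [← normal_subgroupOf_iff_le_normalizer (map_subtype_le _), subgroupOf,
      comap_map_eq_self_of_injective H.subtype_injective]
    infer_instance
  have hcop : (Nat.card ↥A).Coprime (Nat.card ↥K) := by
    obtain ⟨k, hk⟩ := IsPGroup.iff_card.1 (hTGp.to_le (show A ≤ TG from fun x hx => hx.1))
    rw [hk, card_map_of_injective H.subtype_injective]
    exact Nat.Coprime.pow_left k (Nat.coprime_comm.1 (FittingCores.pPrimeCore_coprime 2))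
  have hKM : K ≤ d.M := by
    rw [← CoprimeAct.generated_by_centralizers hAn hAK hcop]
    refine iSup₂_le fun x hx => inf_le_right.trans ?_
    exact se_centralizer_le d.se (order_two_of_sq hx.1.2 hx.2) (hTM hx.1.1)
  intro x hx
  obtain ⟨o, ho, n, -, hn, rfl⟩ := exists_core_mul (d.ctr.proper H hH) (map_subtype_le _) hTGp
    (d.ctr.two_group_comm hTGp) hTi hx
  exact mul_mem (se_mem_of_conj d.se ha haM (hTM ((mem_normalizer_iff.1 hn a).1 haT))) (hKM ho)

/-- A `p'`-element of `M` centralises a conjugate of `E` in `M`, and its centralizer lies in `M`. -/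
theorem centralizer_pair {x : G} (hx : x ∈ d.M) (hx1 : x ≠ 1) (hxp : (orderOf x).Coprime p) :
    (∃ r ∈ d.M, orderOf r = 2 ∧ r * x = x * r) ∧ centralizer ({x} : Set G) ≤ d.M := by
  haveI := Fact.mk Nat.prime_two
  haveI := d.ctr.proper d.M d.ne_top
  have hn0 : Nat.card ↥d.M ≠ 0 := Nat.card_pos.ne'
  set e := (Nat.card ↥d.M).factorization p
  set k := Nat.card ↥d.M / p ^ e with hk
  have hcard : Nat.card ↥d.M = k * p ^ e := by
    rw [mul_comm, hk, Nat.ordProj_mul_ordCompl_eq_self]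
  have hcop : k.Coprime (p ^ e) :=
    Nat.Coprime.pow_right e (Nat.coprime_comm.1 (Nat.coprime_ordCompl hp.out hn0))
  obtain ⟨B, hB, hxB⟩ := HallSolv.exists_hall_ge hcard hcop (K := zpowers (⟨x, hx⟩ : ↥d.M)) (by
    rw [Nat.card_zpowers, orderOf_mk]; exact hxp.pow_right e)
  have hBp : (Nat.card ↥(B.map d.M.subtype)).Coprime p := by
    rw [card_map_of_injective d.M.subtype_injective, hB, hk]
    exact Nat.coprime_comm.1 (Nat.coprime_ordCompl hp.out hn0)
  -- a Sylow 2-subgroup of `M` inside `B`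
  obtain ⟨T⟩ := (inferInstance : Nonempty (Sylow 2 ↥B))
  have h2e : (p ^ e).factorization 2 = 0 := by
    rw [Nat.Prime.factorization_pow hp.out, Finsupp.single_eq_of_ne d.ctr.p_ne_two.symm]
  have hk0 : k ≠ 0 := fun h0 => hn0 (by rw [hcard, h0, zero_mul])
  let T' : Sylow 2 ↥d.M := Sylow.ofCard ((T : Subgroup ↥B).map B.subtype) (by
    rw [card_map_of_injective B.subtype_injective, T.card_eq_multiplicity, hB, hcard,
      Nat.factorization_mul hk0 (pow_ne_zero _ hp.out.ne_zero), Finsupp.add_apply, h2e, add_zero])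
  obtain ⟨m, hm⟩ := MulAction.exists_smul_eq ↥d.M (d.S.subtype d.S_le) T'
  have hin : ∀ t ∈ d.E, (m : G) * t * (m : G)⁻¹ ∈ B.map d.M.subtype := by
    intro t ht
    have h1 : m * ⟨t, d.E_le_M ht⟩ * m⁻¹ ∈ (T' : Subgroup ↥d.M) := by
      rw [← hm, Sylow.coe_subgroup_smul]
      refine smul_mem_pointwise_smul _ (MulAut.conj m) _ ?_
      rw [Sylow.coe_subtype, mem_subgroupOf]
      exact ht.1
    exact ⟨_, map_subtype_le _ h1, rfl⟩
  have hcomm : ∀ t ∈ d.E, (m : G) * t * (m : G)⁻¹ * x = x * ((m : G) * t * (m : G)⁻¹) :=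
    fun t ht => d.ctr.good.comm hBp (hin t ht) ⟨⟨x, hx⟩, hxB (mem_zpowers _), rfl⟩
  obtain ⟨a, ha, b, hb, hao, hbo, hab⟩ := d.exists_pair
  have hmM : ∀ t ∈ d.E, (m : G) * t * (m : G)⁻¹ ∈ d.M := fun t ht =>
    mul_mem (mul_mem m.2 (d.E_le_M ht)) (inv_mem m.2)
  refine ⟨⟨_, hmM a ha, by rw [order_conj, hao], hcomm a ha⟩, ?_⟩
  refine d.le_of_pair (d.ctr.centralizer_ne_top hx1) (a := (m : G) * a * (m : G)⁻¹)
    (b := (m : G) * b * (m : G)⁻¹) (by rw [order_conj, hao]) (by rw [order_conj, hbo])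
    (fun e => hab (mul_left_cancel (mul_right_cancel e))) ?_
    (mem_centralizer_singleton_iff.2 (hcomm a ha)) (mem_centralizer_singleton_iff.2 (hcomm b hb))
    (hmM a ha) (hmM b hb)
  rw [show (m : G) * a * (m : G)⁻¹ * ((m : G) * b * (m : G)⁻¹) = (m : G) * (a * b) * (m : G)⁻¹ by group,
    d.E_comm ha hb]
  group

/-- `M ∩ M^g` is a `p`-group for `g ∉ M`. -/
theorem inter_pow {g x : G} (hg : g ∉ d.M) (hx : x ∈ d.M) (hxg : g⁻¹ * x * g ∈ d.M) :
    ∃ k, x ^ p ^ k = 1 := by
  obtain ⟨a, b, ha, hb, hab, -, -, hbz⟩ := exists_parts (p := p) x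
  suffices b = 1 by rwa [← hab, this, mul_one]
  by_contra hb1
  have hbM : b ∈ d.M := zpowers_le.2 hx hbz
  have hbg : g⁻¹ * b * g ∈ d.M := by
    obtain ⟨i, rfl⟩ := mem_zpowers_iff.1 hbz
    have : g⁻¹ * x ^ i * g = (g⁻¹ * x * g) ^ i := by
      have h1 := conj_zpow (a := g⁻¹) (b := x) (i := i)
      rw [inv_inv] at h1
      exact h1.symm
    rw [this]
    exact zpow_mem hxg i
  obtain ⟨⟨r, hrM, hro, hrb⟩, -⟩ := d.centralizer_pair hbM hb1 hb
  have hne : g⁻¹ * b * g ≠ 1 := fun e => hb1 (by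
    have : b = g * (g⁻¹ * b * g) * g⁻¹ := by group
    rw [this, e]; group)
  have hord : (orderOf (g⁻¹ * b * g)).Coprime p := by
    rwa [show g⁻¹ * b * g = g⁻¹ * b * g⁻¹⁻¹ by group, order_conj]
  have hrg : g⁻¹ * r * g ∈ d.M := (d.centralizer_pair hbg hne hord).2 (by
    rw [mem_centralizer_singleton_iff,
      show g⁻¹ * r * g * (g⁻¹ * b * g) = g⁻¹ * (r * b) * g by group, hrb]
    group)
  exact hg (inv_mem_iff.1 (se_mem_of_conj d.se hro hrM (g := g⁻¹) (by rwa [inv_inv])))

/-- `N(S)` is transitive on the involutions of `S`. -/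
theorem transitive {a b : G} (ha : a ∈ d.E) (ha1 : a ≠ 1) (hb : b ∈ d.E) (hb1 : b ≠ 1) :
    ∃ n ∈ normalizer ((d.S : Subgroup G) : Set G), n * a * n⁻¹ = b := by
  haveI := Fact.mk Nat.prime_two
  haveI := d.ctr.two_group_comm d.S.isPGroup'
  obtain ⟨g, hg⟩ := isConj_iff.1 (se_isConj d.se (d.order_E ha ha1) (d.order_E hb hb1))
  obtain ⟨n, hn, hne⟩ := d.S.conj_eq_normalizer_conj_of_mem a g⁻¹ ha.1 (by
    rw [inv_inv, hg]; exact hb.1)
  refine ⟨n⁻¹, inv_mem hn, ?_⟩
  rw [inv_inv, hg] at hne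
  rw [inv_inv]
  exact hne.symm

/-- The number of involutions of `S` is `p`. -/
theorem card_E : Nat.card ↥d.E = p + 1 := by
  haveI := Fact.mk Nat.prime_two
  set N := normalizer ((d.S : Subgroup G) : Set G) with hN
  obtain ⟨t, ht, -, -, hto, -, -⟩ := d.exists_pair
  have ht1 := Invol.ne_one hto
  haveI : (Cfsg.pResidual p ↥N).Normal := LEBasic.pResidual_normal
  set F := (centralizer ({t} : Set G)).subgroupOf N with hF
  have hle : Cfsg.pResidual p ↥N ≤ F := by
    rw [Cfsg.pResidual, closure_le]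
    intro x hx
    rw [SetLike.mem_coe, hF, mem_subgroupOf, mem_centralizer_singleton_iff]
    have hxc := d.ctr.good.centralises (x := (x : G)) (by rw [Subgroup.orderOf_coe]; exact hx)
      (d.ctr.coprime_of_two _ d.S.isPGroup') x.2
    exact (mem_centralizer_iff.1 hxc t ht.1).symm
  obtain ⟨k, hk⟩ := IsPGroup.iff_card.1
    (LEBasic.quotient_pResidual_isPGroup (p := p) (G := ↥N))
  have hdvd : F.index ∣ p ^ k := by
    rw [← hk]
    exact index_dvd_of_le hle
  obtain ⟨a, -, ha⟩ := (Nat.dvd_prime_pow hp.out).1 hdvd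
  -- cosets of `F` and involutions of `E`
  let φ : ↥N → {x : G // x ∈ d.E ∧ x ≠ 1} := fun n => ⟨(n : G) * t * (n : G)⁻¹,
    ⟨(mem_normalizer_iff.1 n.2 t).1 ht.1, by
      rw [show (n : G) * t * (n : G)⁻¹ * ((n : G) * t * (n : G)⁻¹) = (n : G) * (t * t) * (n : G)⁻¹ by group,
        ht.2]
      group⟩, fun e => ht1 (conj_eq_one_iff.1 e)⟩
  have hφ : ∀ n m : ↥N, φ n = φ m ↔ n⁻¹ * m ∈ F := by
    intro n m
    rw [hF, mem_subgroupOf, mem_centralizer_singleton_iff, Subtype.ext_iff]
    show (n : G) * t * (n : G)⁻¹ = (m : G) * t * (m : G)⁻¹ ↔ (n : G)⁻¹ * m * t = t * ((n : G)⁻¹ * m)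
    constructor
    · intro e
      calc (n : G)⁻¹ * m * t = (n : G)⁻¹ * ((m : G) * t * (m : G)⁻¹) * m := by group
        _ = t * ((n : G)⁻¹ * m) := by rw [← e]; group
    · intro e
      calc (n : G) * t * (n : G)⁻¹ = n * (t * ((n : G)⁻¹ * m)) * (m : G)⁻¹ := by group
        _ = (m : G) * t * (m : G)⁻¹ := by rw [← e]; group
  have hbij : Function.Bijective (Quotient.lift φ fun n m hnm =>
      (hφ n m).2 (QuotientGroup.leftRel_apply.1 hnm) : ↥N ⧸ F → _) := by
    refine ⟨?_, ?_⟩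
    · intro x y
      induction x using QuotientGroup.induction_on with
      | _ n =>
        induction y using QuotientGroup.induction_on with
        | _ m => exact fun e => QuotientGroup.eq.2 ((hφ n m).1 e)
    · rintro ⟨x, hx, hx1⟩
      obtain ⟨n, hn, hne⟩ := d.transitive ht ht1 hx hx1
      exact ⟨QuotientGroup.mk (⟨n, hn⟩ : ↥N), Subtype.ext hne⟩
  have h1 : F.index = Nat.card {x : G // x ∈ d.E ∧ x ≠ 1} := Nat.card_eq_of_bijective _ hbij
  have h2 : Nat.card ↥d.E = Nat.card {x : G // x ∈ d.E ∧ x ≠ 1} + 1 := by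
    classical
    rw [← Finite.card_option]
    refine Nat.card_congr ?_
    exact {
      toFun := fun x => if e : (x : G) = 1 then none else some ⟨x, x.2, e⟩
      invFun := fun o => o.elim 1 fun x => ⟨x.1, x.2.1⟩
      left_inv := fun x => by
        by_cases e : (x : G) = 1
        · simp only [dif_pos e, Option.elim]
          exact Subtype.ext e.symm
        · simp only [dif_neg e, Option.elim]
      right_inv := fun o => by
        rcases o with _ | ⟨x, hx, hx1⟩
        · simp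
        · simp [hx1] }
  rw [← h1, ha] at h2
  obtain ⟨e, he⟩ := IsPGroup.iff_card.1 (d.S.isPGroup'.to_le d.E_le)
  have h8 := d.eight
  have ha0 : a ≠ 0 := by rintro rfl; simp at h2; omega
  rw [h2, prime_of_two_pow (e := e) (by rw [← he]; exact h2) ha0, pow_one]

/-- An element of `p`-power order normalising `S` and centralising one involution of `S` centralises all. -/
theorem centralises_E {c t : G} (hc : ∃ k, c ^ p ^ k = 1) (hcn : ∀ e ∈ d.E, c * e * c⁻¹ ∈ d.E)
    (ht : t ∈ d.E) (ht1 : t ≠ 1) (hct : c * t * c⁻¹ = t) : ∀ e ∈ d.E, c * e * c⁻¹ = e := by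
  by_contra hno
  push_neg at hno
  obtain ⟨e, he, hne⟩ := hno
  obtain ⟨k, hck⟩ := hc
  have hEn : ∀ i : ℕ, c ^ i * e * (c ^ i)⁻¹ ∈ d.E := by
    intro i
    induction i with
    | zero => simpa using he
    | succ i ih =>
      rw [pow_succ', show c * c ^ i * e * (c * c ^ i)⁻¹ = c * (c ^ i * e * (c ^ i)⁻¹) * c⁻¹ by group]
      exact hcn _ ih
  have hfix : ∀ i : ℕ, c ^ i * t * (c ^ i)⁻¹ = t := by
    intro i
    induction i with
    | zero => simp
    | succ i ih =>
      rw [pow_succ', show c * c ^ i * t * (c * c ^ i)⁻¹ = c * (c ^ i * t * (c ^ i)⁻¹) * c⁻¹ by group, ih, hct]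
  have hinj : ∀ i j : ℕ, i < j → j < p → c ^ i * e * (c ^ i)⁻¹ ≠ c ^ j * e * (c ^ j)⁻¹ := by
    intro i j hij hjp e0
    have hd : c ^ (j - i) ∈ centralizer ({e} : Set G) := by
      rw [mem_centralizer_singleton_iff]
      rw [show j = i + (j - i) by omega, pow_add] at e0
      have e' : e = c ^ (j - i) * e * (c ^ (j - i))⁻¹ := by
        calc e = (c ^ i)⁻¹ * (c ^ i * e * (c ^ i)⁻¹) * c ^ i := by group
          _ = c ^ (j - i) * e * (c ^ (j - i))⁻¹ := by rw [e0]; group
      exact (eq_mul_inv_iff_mul_eq.1 e').symm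
    have hcop : Nat.Coprime (j - i) (p ^ k) :=
      Nat.Coprime.pow_right k (Nat.coprime_comm.1 ((hp.out.coprime_iff_not_dvd).2 fun hdvd =>
        absurd (Nat.le_of_dvd (by omega) hdvd) (by omega)))
    obtain ⟨m, hm⟩ := exists_pow_eq_self_of_coprime (x := c)
      (hcop.coprime_dvd_right (orderOf_dvd_of_pow_eq_one hck))
    apply hne
    have hcC : c ∈ centralizer ({e} : Set G) := hm ▸ pow_mem hd m
    rw [mem_centralizer_singleton_iff.1 hcC, mul_inv_cancel_right]
  -- `1`, `t` and the `p` images of `e` are distinct elements of `E`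
  let φ : Option (Option (Fin p)) → ↥d.E := fun o => o.elim 1 fun o' =>
    o'.elim ⟨t, ht⟩ fun i => ⟨_, hEn i⟩
  have hmove : ∀ i : ℕ, c ^ i * e * (c ^ i)⁻¹ ≠ t := by
    intro i e0
    have h1 : e = t := by
      rw [← hfix i] at e0
      exact mul_left_cancel (mul_right_cancel e0)
    exact hne (h1 ▸ hct)
  have hne1 : ∀ i : ℕ, c ^ i * e * (c ^ i)⁻¹ ≠ 1 := fun i e0 => hne (by
    rw [conj_eq_one_iff.1 e0]; group)
  have hφ : Function.Injective φ := by
    rintro (_ | _ | i) (_ | _ | j) e0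
    · rfl
    · exact absurd (congrArg Subtype.val e0).symm ht1
    · exact absurd (congrArg Subtype.val e0).symm (hne1 j)
    · exact absurd (congrArg Subtype.val e0) ht1
    · rfl
    · exact absurd (congrArg Subtype.val e0).symm (hmove j)
    · exact absurd (congrArg Subtype.val e0) (hne1 i)
    · exact absurd (congrArg Subtype.val e0) (hmove i)
    · have e' : c ^ (i : ℕ) * e * (c ^ (i : ℕ))⁻¹ = c ^ (j : ℕ) * e * (c ^ (j : ℕ))⁻¹ :=
        congrArg Subtype.val e0
      rcases lt_trichotomy (i : ℕ) j with hlt | heq | hgt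
      · exact absurd e' (hinj _ _ hlt j.2)
      · rw [Fin.ext heq]
      · exact absurd e'.symm (hinj _ _ hgt i.2)
  have h1 := Nat.card_le_card_of_injective φ hφ
  simp only [Finite.card_option, Nat.card_eq_fintype_card (α := Fin p), Fintype.card_fin] at h1
  rw [d.card_E] at h1
  omega

end Emb

end Cfsg.Agent.AbPPrime
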