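import Cfsg.Agent.Lib.AbPPrime.Core
import Cfsg.Agent.Lib.AbelCent.Main
import Cfsg.Agent.Lib.Char.Burnside
import Mathlib.FieldTheory.Finite.Basic

/-!
Groups whose `p'`-subgroups are abelian of exponent dividing `p - 1` are solvable.
-/

set_option autoImplicit false
set_option linter.style.haveILetI false
set_option linter.unusedSectionVars false

namespace Cfsg.Agent.AbPPrime

open Subgroup Polynomial
open scoped Pointwise MatrixGroups

universe u

section field

variable {F : Type*} [Field F] [Fintype F] [CharP F 2]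

theorem exists_not_trace : ∃ x : F, ∀ r : F, r + r⁻¹ ≠ x := by
  by_contra hno
  push_neg at hno
  have hinj : Function.Injective fun r : F => r + r⁻¹ :=
    Finite.injective_iff_surjective.2 fun x => hno x
  refine zero_ne_one (α := F) (hinj ?_)
  simp [CharTwo.add_self_eq_zero]

variable (x : F)

/-- The companion matrix of `X² + x X + 1`. -/
def comp2 : Matrix (Fin 2) (Fin 2) F := !![0, 1; 1, x]

theorem comp2_sq : comp2 x * comp2 x = x • comp2 x + 1 := by
  ext i j; fin_cases i <;> fin_cases j <;> simp [comp2, Matrix.mul_apply, Fin.sum_univ_two] <;> ring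

theorem comp2_pow_mem (n : ℕ) : ∃ c d : F, comp2 x ^ n = c • (1 : Matrix (Fin 2) (Fin 2) F) + d • comp2 x := by
  induction n with
  | zero => exact ⟨1, 0, by simp⟩
  | succ n ih =>
    obtain ⟨c, d, h⟩ := ih
    refine ⟨d, c + d * x, ?_⟩
    rw [pow_succ, h, add_mul, smul_mul_assoc, smul_mul_assoc, one_mul, comp2_sq, smul_add, smul_smul,
      add_smul]
    abel

variable {x} (hx : ∀ r : F, r + r⁻¹ ≠ x)

include hx

theorem det_ne {c d : F} (h : ¬ (c = 0 ∧ d = 0)) :
    (c • (1 : Matrix (Fin 2) (Fin 2) F) + d • comp2 x).det ≠ 0 := by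
  intro e
  have e' : c * (c + d * x) - d * d = 0 := by
    rw [← e, Matrix.det_fin_two]; simp [comp2]
  by_cases hd : d = 0
  · subst hd
    simp at e'
    exact h ⟨e', rfl⟩
  set r := c / d with hr
  have hc : c = r * d := by rw [hr, div_mul_cancel₀ c hd]
  have h1 : r * r + r * x - 1 = 0 := by
    apply mul_left_cancel₀ (mul_ne_zero hd hd)
    rw [mul_zero, ← e', hc]; ring
  have hr0 : r ≠ 0 := fun e0 => by rw [e0] at h1; simp at h1
  refine hx r ?_
  apply mul_left_cancel₀ hr0
  rw [mul_add, mul_inv_cancel₀ hr0]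
  linear_combination h1 - (CharTwo.add_self_eq_zero (r * x - 1) : _)

theorem comp2_pow_card :
    comp2 x ^ (Fintype.card F + 1) = 1 := by
  classical
  haveI : Fact (Nat.Prime 2) := ⟨Nat.prime_two⟩
  set q := Fintype.card F
  obtain ⟨n, -, hn⟩ := FiniteField.card F 2
  set A := comp2 x with hA
  set B := A ^ q with hB
  have h2 : (2 : Matrix (Fin 2) (Fin 2) F) = 0 := CharTwo.two_eq_zero
  have hBsq : B * B = x • B + 1 := by
    have hc : Commute (x • A) (1 : Matrix (Fin 2) (Fin 2) F) := Commute.one_right _
    calc B * B = (A * A) ^ q := by rw [hB, ← pow_add, ← two_mul, pow_mul, pow_two]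
      _ = (x • A + 1) ^ q := by rw [comp2_sq]
      _ = (x • A) ^ q + 1 ^ q := by
          rw [show q = 2 ^ (n : ℕ) from hn]; exact add_pow_char_pow_of_commute _ _ hc
      _ = x • B + 1 := by rw [_root_.smul_pow, FiniteField.pow_card, one_pow, hB]
  have hcomm : A * B = B * A := (Commute.self_pow A q).eq
  have hzero : (B - A) * (B - A - x • (1 : Matrix (Fin 2) (Fin 2) F)) = 0 := by
    have e : (B - A) * (B - A - x • (1 : Matrix (Fin 2) (Fin 2) F)) =
        B * B + A * A - 2 * (A * B) - x • B + x • A := by
      rw [sub_mul, mul_sub, mul_sub, mul_sub, mul_sub, mul_smul_comm, mul_smul_comm, mul_one, mul_one,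
        ← hcomm, two_mul]
      abel
    rw [e, hBsq, hA, comp2_sq, ← hA, h2, zero_mul, sub_zero,
      show x • B + 1 + (x • A + 1) - x • B + x • A = (2 : ℕ) • (1 + x • A) by rw [two_nsmul]; abel,
      nsmul_eq_mul, Nat.cast_ofNat, h2, zero_mul]
  obtain ⟨c, d, hcd⟩ := comp2_pow_mem x q
  have hBA : B - A = c • (1 : Matrix (Fin 2) (Fin 2) F) + (d - 1) • A := by
    rw [hB, hA, hcd, sub_smul, one_smul]; abel
  by_cases h0 : c = 0 ∧ d - 1 = 0
  · -- `A ^ q = A` would give a root in `F`
    exfalso
    have hAq : A ^ q = A := by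
      rw [← sub_eq_zero, ← hB, hBA, h0.1, h0.2, zero_smul, zero_smul, add_zero]
    have hprod : ((Finset.univ : Finset F).val.map fun a => Polynomial.X - Polynomial.C a).prod =
        (Polynomial.X : F[X]) ^ q - Polynomial.X := by
      have hmon : ((Polynomial.X : F[X]) ^ q - Polynomial.X).Monic :=
        monic_X_pow_sub (by rw [degree_X]; exact_mod_cast Fintype.one_lt_card)
      have hroots : ((Polynomial.X : F[X]) ^ q - Polynomial.X).roots = (Finset.univ : Finset F).val :=
        FiniteField.roots_X_pow_card_sub_X F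
      have hdeg := FiniteField.X_pow_card_sub_X_natDegree_eq (K' := F) (p := q) Fintype.one_lt_card
      have := prod_multiset_X_sub_C_of_monic_of_roots_card_eq hmon (by
        rw [hroots, hdeg]; rfl)
      rwa [hroots] at this
    let φ : F[X] →* F := (Matrix.detMonoidHom (n := Fin 2) (R := F)).comp
      ((aeval A : F[X] →ₐ[F] Matrix (Fin 2) (Fin 2) F).toRingHom.toMonoidHom)
    have h1 : φ (((Finset.univ : Finset F).val.map fun a => Polynomial.X - Polynomial.C a).prod) = 0 := by
      rw [hprod]
      show ((aeval A) ((Polynomial.X : F[X]) ^ q - Polynomial.X)).det = 0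
      rw [map_sub, map_pow, aeval_X, hAq, sub_self, Matrix.det_zero]
    rw [map_multiset_prod, Multiset.map_map] at h1
    obtain ⟨a, -, ha⟩ := Multiset.mem_map.1 (Multiset.prod_eq_zero_iff.1 h1)
    refine det_ne hx (c := -a) (d := 1) (fun h => one_ne_zero h.2) ?_
    rw [← ha]
    show _ = ((aeval A) ((Polynomial.X : F[X]) - Polynomial.C a)).det
    rw [map_sub, aeval_X, aeval_C, Algebra.algebraMap_eq_smul_one, one_smul, neg_smul, neg_add_eq_sub]
  · have hu : IsUnit (B - A) := by
      rw [Matrix.isUnit_iff_isUnit_det, isUnit_iff_ne_zero, hBA]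
      exact det_ne hx h0
    have hB' : B = A + x • (1 : Matrix (Fin 2) (Fin 2) F) := by
      have := (hu.mul_right_eq_zero).1 hzero
      rw [sub_sub, sub_eq_zero] at this
      exact this
    rw [pow_succ', ← hB, hB', mul_add, mul_smul_comm, mul_one, hA, comp2_sq,
      show x • comp2 x + 1 + x • comp2 x = 1 + (2 : ℕ) • (x • comp2 x) by rw [two_nsmul]; abel,
      nsmul_eq_mul, Nat.cast_ofNat, h2, zero_mul, add_zero]

end field

variable {G : Type u} [Group G] [Finite G] {p : ℕ} [hp : Fact p.Prime]

/-- A product of two involutions has order dividing twice a power of `p`. -/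
theorem Ctr.pow_of_inverted (h : Ctr p G) {w y : G} (hw : w * w = 1) (hinv : w * y * w⁻¹ = y⁻¹) :
    ∃ k, y ^ (2 * p ^ k) = 1 := by
  obtain ⟨a, b, ⟨k, hak⟩, hb, hab, hcab, -, hbz⟩ := exists_parts (p := p) y
  refine ⟨k, ?_⟩
  have hwp : (orderOf w).Coprime p :=
    h.two_coprime.coprime_dvd_left (orderOf_dvd_of_pow_eq_one (by rw [pow_two, hw]))
  have hbinv : w * b * w⁻¹ = b⁻¹ := by
    obtain ⟨i, rfl⟩ := mem_zpowers_iff.1 hbz
    rw [← conj_zpow, hinv, inv_zpow]
  have hb2 : b ^ 2 = 1 := by rw [pow_two]; exact h.good.sq_of_inverted hwp hb hbinv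
  rw [← hab, hcab.mul_pow, pow_mul, pow_mul b, hb2, one_pow, mul_one, ← pow_mul, mul_comm, pow_mul, hak,
    one_pow]

theorem Ctr.false (h : Ctr p G) : False := by
  classical
  haveI := Fact.mk Nat.prime_two
  haveI := h.simple
  obtain ⟨d⟩ := exists_emb h
  have hyp : AbelCent.Hyp d.S := by
    refine ⟨fun t ht => .of_setLike_mul_comm fun a ha b hb => d.centralizer_comm ht ha hb, fun hc => ?_, fun hn => ?_⟩
    · haveI := hc
      haveI : Fintype ↥(d.S : Subgroup G) := Fintype.ofFinite _
      have hle := IsCyclic.card_pow_eq_one_le (α := ↥(d.S : Subgroup G)) (n := 2) two_pos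
      have h8 := d.eight
      have h2 : Nat.card ↥d.E ≤ Nat.card {x : ↥(d.S : Subgroup G) // x ^ 2 = 1} :=
        Nat.card_le_card_of_injective (fun x => ⟨⟨x, d.E_le x.2⟩, Subtype.ext (by
          rw [Subgroup.coe_pow, pow_two]; exact x.2.2)⟩) fun x y e => Subtype.ext (congrArg (fun z => ((z.1 : ↥(d.S : Subgroup G)) : G)) e)
      rw [Nat.card_eq_fintype_card (α := {x : ↥(d.S : Subgroup G) // x ^ 2 = 1}), Fintype.card_subtype] at h2
      omega
    · rcases hn.eq_bot_or_eq_top with e | e
      exacts [h.sylow_ne_bot d.S e, h.sylow_ne_top d.S e]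
  obtain ⟨F, _, _, A, _, _, hF, -, ⟨e⟩⟩ := AbelCent.Good.split (AbelCent.good_of_hyp hyp)
  haveI := hF
  let π : G →* A := (MonoidHom.snd (Matrix.SpecialLinearGroup (Fin 2) F) A).comp e.toMonoidHom
  have hA : ∀ a : A, a = 1 := by
    rcases (inferInstance : π.ker.Normal).eq_bot_or_eq_top with hk | hk
    · exfalso
      have hinj := (MonoidHom.ker_eq_bot_iff π).1 hk
      exact h.nonsolvable (Group.isSolvable_of_comm fun x y => hinj (by rw [map_mul, map_mul, mul_comm]))
    · intro a
      have h1 : π (e.symm (1, a)) = 1 := (MonoidHom.mem_ker).1 (hk ▸ mem_top _)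
      simpa [π] using h1
  let f : Matrix.SpecialLinearGroup (Fin 2) F →* G :=
    e.symm.toMonoidHom.comp (MonoidHom.inl _ _)
  have hfinj : Function.Injective f := fun a b hab => congrArg Prod.fst (e.symm.injective hab)
  have hfsurj : Function.Surjective f := fun g =>
    ⟨(e g).1, by
      show e.symm ((e g).1, 1) = g
      rw [← hA (e g).2]; exact e.symm_apply_apply g⟩
  let W : Matrix.SpecialLinearGroup (Fin 2) F :=
    ⟨!![0, 1; 1, 0], by simp [Matrix.det_fin_two, CharTwo.neg_eq]⟩
  have hW : W * W = 1 := by
    ext i j; simp only [Matrix.SpecialLinearGroup.coe_mul, Matrix.SpecialLinearGroup.coe_one]; fin_cases i <;> fin_cases j <;> simp [W, Matrix.mul_apply, Fin.sum_univ_two]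
  have horder : ∀ M : Matrix.SpecialLinearGroup (Fin 2) F, W * M * W⁻¹ = M⁻¹ →
      ∃ k, M ^ (2 * p ^ k) = 1 := by
    intro M hM
    obtain ⟨k, hk⟩ := h.pow_of_inverted (w := f W) (y := f M) (by rw [← map_mul, hW, map_one])
      (by rw [← map_inv, ← map_mul, ← map_mul, hM, map_inv])
    exact ⟨k, hfinj (by rw [map_pow, hk, map_one])⟩
  have hWi : W⁻¹ = W := inv_eq_of_mul_eq_one_right hW
  -- units of `F` have `p`-power order
  have hunits : ∀ r : Fˣ, ∃ k, r ^ p ^ k = 1 := by
    intro r
    let D : Matrix.SpecialLinearGroup (Fin 2) F :=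
      ⟨!![(r : F), 0; 0, ((r⁻¹ : Fˣ) : F)], by simp [Matrix.det_fin_two]⟩
    obtain ⟨k, hk⟩ := horder D (by
      rw [hWi, eq_inv_iff_mul_eq_one]
      ext i j; simp only [Matrix.SpecialLinearGroup.coe_mul, Matrix.SpecialLinearGroup.coe_one]; fin_cases i <;> fin_cases j <;> simp [W, D, Matrix.mul_apply, Fin.sum_univ_two])
    refine ⟨k, ?_⟩
    have hpow : ∀ n : ℕ, ((D ^ n : Matrix.SpecialLinearGroup (Fin 2) F) : Matrix (Fin 2) (Fin 2) F) =
        !![(r : F) ^ n, 0; 0, ((r⁻¹ : Fˣ) : F) ^ n] := by
      intro n
      induction n with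
      | zero => ext i j; fin_cases i <;> fin_cases j <;> simp
      | succ n ih =>
        rw [pow_succ, Matrix.SpecialLinearGroup.coe_mul, ih]
        ext i j; fin_cases i <;> fin_cases j <;> simp [D, Matrix.mul_apply, Fin.sum_univ_two, pow_succ]
    have h1 := congrArg (fun M : Matrix.SpecialLinearGroup (Fin 2) F => (M : Matrix (Fin 2) (Fin 2) F) 0 0) hk
    simp only [hpow, Matrix.SpecialLinearGroup.coe_one] at h1
    simp at h1
    apply Units.ext
    rw [Units.val_pow_eq_pow_val, Units.val_one]
    rw [mul_comm, pow_mul] at h1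
    have h2 : ((r : F) ^ p ^ k + 1) ^ 2 = 0 := by rw [CharTwo.add_sq, h1, one_pow, CharTwo.add_self_eq_zero]
    exact CharTwo.add_eq_zero.1 (pow_eq_zero_iff two_ne_zero |>.1 h2)
  obtain ⟨n, -, hn⟩ := FiniteField.card F 2
  have hUp : IsPGroup p Fˣ := fun r => hunits r
  obtain ⟨a, ha⟩ := IsPGroup.iff_card.1 hUp
  rw [Nat.card_units, Nat.card_eq_fintype_card] at ha
  have hq : 2 ^ (n : ℕ) = p ^ a + 1 := by have := Fintype.one_lt_card (α := F); omega
  rcases Nat.eq_zero_or_pos a with rfl | ha0
  · -- `q = 2`
    rw [pow_zero] at hq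
    have hF2 : Fintype.card F = 2 := by omega
    have hcard : Nat.card G ≤ 16 := by
      rw [← Nat.card_congr (Equiv.ofBijective f ⟨hfinj, hfsurj⟩)]
      refine (Nat.card_le_card_of_injective (fun M : Matrix.SpecialLinearGroup (Fin 2) F =>
        ((M : Matrix (Fin 2) (Fin 2) F) : Fin 2 → Fin 2 → F)) fun x y e => Subtype.ext e).trans ?_
      show Nat.card (Fin 2 → Fin 2 → F) ≤ 16
      rw [Nat.card_fun, Nat.card_fun, Nat.card_fin, Nat.card_eq_fintype_card, hF2]
      norm_num
    have hE8 := d.eight
    obtain ⟨m, hm⟩ := IsPGroup.iff_card.1 (d.S.isPGroup'.to_le d.E_le)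
    have hdvd : Nat.card ↥d.E ∣ Nat.card G := card_subgroup_dvd_card _
    have h8 : 8 ∣ Nat.card G := by
      refine Dvd.dvd.trans ?_ hdvd
      rw [hm]
      have h3 : 3 ≤ m := by
        by_contra hlt
        have : 2 ^ m ≤ 2 ^ 2 := Nat.pow_le_pow_right two_pos (by omega)
        omega
      exact (show 8 = 2 ^ 3 from rfl) ▸ Nat.pow_dvd_pow 2 h3
    have hpg : IsPGroup 2 G := by
      have := Nat.card_pos (α := G)
      rcases h8 with ⟨c, hc⟩
      have : c = 1 ∨ c = 2 := by omega
      rcases this with rfl | rfl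
      · exact IsPGroup.of_card (n := 3) (by rw [hc]; norm_num)
      · exact IsPGroup.of_card (n := 4) (by rw [hc]; norm_num)
    haveI := hpg.isNilpotent
    exact h.nonsolvable inferInstance
  have hqp : Fintype.card F = p + 1 := by
    rw [hn, hq, prime_of_two_pow hq ha0.ne', pow_one]
  obtain ⟨x, hx⟩ := exists_not_trace (F := F)
  let M : Matrix.SpecialLinearGroup (Fin 2) F := ⟨comp2 x, by simp [comp2, Matrix.det_fin_two, CharTwo.neg_eq]⟩
  obtain ⟨k, hk⟩ := horder M (by
    rw [hWi, eq_inv_iff_mul_eq_one]
    ext i j; simp only [Matrix.SpecialLinearGroup.coe_mul, Matrix.SpecialLinearGroup.coe_one]; fin_cases i <;> fin_cases j <;>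
      simp [W, M, comp2, Matrix.mul_apply, Fin.sum_univ_two, CharTwo.add_self_eq_zero])
  have hM : M ^ (Fintype.card F + 1) = 1 := Subtype.ext (by
    rw [Matrix.SpecialLinearGroup.coe_pow, Matrix.SpecialLinearGroup.coe_one]
    exact comp2_pow_card hx)
  have hcop : (2 * p ^ k).Coprime (Fintype.card F + 1) := by
    have hp2 : ¬ 2 ∣ p := fun hd => by
      rcases (Nat.dvd_prime hp.out).1 hd with h' | h'
      · omega
      · exact h.p_ne_two h'.symm
    rw [hqp]
    refine Nat.Coprime.mul_left ?_ (Nat.Coprime.pow_left k ?_)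
    · exact (Nat.prime_two.coprime_iff_not_dvd).2 (by omega)
    · refine (hp.out.coprime_iff_not_dvd).2 fun hd => ?_
      have h5 := h.five
      have h2 : p ∣ 2 := (Nat.dvd_add_right (dvd_refl p)).1 (by simpa [add_assoc] using hd)
      have := Nat.le_of_dvd two_pos h2
      omega
  have hM1 : M = 1 := by
    have h1 := Nat.dvd_gcd (orderOf_dvd_of_pow_eq_one hk) (orderOf_dvd_of_pow_eq_one hM)
    rw [hcop.gcd_eq_one, Nat.dvd_one, orderOf_eq_one_iff] at h1
    exact h1
  have := congrArg (fun N : Matrix.SpecialLinearGroup (Fin 2) F => (N : Matrix (Fin 2) (Fin 2) F) 0 1) hM1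
  simp [M, comp2] at this

theorem solvable_of_good : ∀ (n : ℕ) (G : Type u) [Group G] [Finite G], Nat.card G = n → Good' p G →
    Group.IsSolvable G := by
  intro n
  induction n using Nat.strong_induction_on with
  | _ n ih =>
    intro G _ _ hn hg
    subst hn
    by_contra hns
    have hproper : ∀ H : Subgroup G, H ≠ ⊤ → Group.IsSolvable ↥H := fun H hH =>
      ih _ (lt_of_le_of_ne (Nat.le_of_dvd Nat.card_pos (card_subgroup_dvd_card H))
        fun e => hH (eq_top_of_card_eq H e)) ↥H rfl (hg.sub H)
    haveI : Nontrivial G := by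
      rw [← not_subsingleton_iff_nontrivial]
      intro hs
      exact hns inferInstance
    by_cases hsimple : IsSimpleGroup G
    swap
    · obtain ⟨N, hN, hN1, hN2⟩ : ∃ N : Subgroup G, N.Normal ∧ N ≠ ⊥ ∧ N ≠ ⊤ := by
        by_contra hno
        push_neg at hno
        exact hsimple ⟨fun N hN => or_iff_not_imp_left.2 fun h1 => hno N hN h1⟩
      haveI := hN
      haveI := hproper N hN2
      by_cases hq : (Nat.card (G ⧸ N)).Coprime p
      · -- a `p'`-quotient
        apply hns
        obtain ⟨P⟩ := (inferInstance : Nonempty (Sylow p ↥N))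
        set PG := (P : Subgroup ↥N).map N.subtype with hPG
        by_cases hnorm : normalizer (PG : Set G) = ⊤
        · haveI : PG.Normal := normalizer_eq_top_iff.1 hnorm
          have hPGp : IsPGroup p ↥PG := P.isPGroup'.map _
          have hidx : PG.index.Coprime p := by
            rw [hPG, index_map_subtype]
            refine Nat.Coprime.mul_left ?_ hq
            exact Nat.coprime_comm.1 ((hp.out.coprime_iff_not_dvd).2 P.not_dvd_index)
          obtain ⟨k, hk⟩ := IsPGroup.iff_card.1 hPGp
          obtain ⟨B, hB⟩ := exists_right_complement'_of_coprime (N := PG)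
            (by rw [hk]; exact (Nat.coprime_comm.1 hidx).pow_left k)
          have hBc : (Nat.card ↥B).Coprime p := by rwa [← hB.symm.index_eq_card]
          haveI : Group.IsSolvable ↥B :=
            Group.isSolvable_of_comm fun x y => Subtype.ext (hg.comm hBc x.2 y.2)
          haveI : Group.IsSolvable (G ⧸ PG) :=
            Group.isSolvable_of_surjective
              (f := (QuotientGroup.mk' PG).comp B.subtype) (by
                intro y
                obtain ⟨g, rfl⟩ := QuotientGroup.mk'_surjective PG y
                obtain ⟨⟨⟨a, ha⟩, ⟨b, hb⟩⟩, hab⟩ := hB.surjective g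
                refine ⟨⟨b, hb⟩, ?_⟩
                rw [← hab]
                show QuotientGroup.mk' PG b = QuotientGroup.mk' PG (a * b)
                rw [map_mul, show QuotientGroup.mk' PG a = 1 from (QuotientGroup.eq_one_iff a).2 ha, one_mul])
          haveI := hPGp.isNilpotent
          exact (Group.isSolvable_iff_subgroup_quotient PG).2 ⟨inferInstance, inferInstance⟩
        · haveI := hproper _ hnorm
          haveI : Group.IsSolvable (G ⧸ N) := Group.isSolvable_of_surjective
            (f := (QuotientGroup.mk' N).comp (normalizer (PG : Set G)).subtype) (by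
              intro y
              obtain ⟨g, rfl⟩ := QuotientGroup.mk'_surjective N y
              have hm : g ∈ normalizer (PG : Set G) ⊔ N :=
                (Sylow.normalizer_sup_eq_top P).symm ▸ mem_top g
              obtain ⟨a, ha, b, hb, rfl⟩ := mem_sup_of_normal_right.1 hm
              refine ⟨⟨a, ha⟩, ?_⟩
              show QuotientGroup.mk' N a = QuotientGroup.mk' N (a * b)
              rw [map_mul, show QuotientGroup.mk' N b = 1 from (QuotientGroup.eq_one_iff b).2 hb, mul_one])
          exact (Group.isSolvable_iff_subgroup_quotient N).2 ⟨inferInstance, inferInstance⟩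
      · apply hns
        have hgq : Good' p (G ⧸ N) := by
          intro H hH
          have hne : H ≠ ⊤ := fun e => hq (by rwa [e, card_top] at hH)
          set H' := H.comap (QuotientGroup.mk' N) with hH'
          haveI := hproper H' (fun e => hne (by
            rw [← map_comap_eq_self_of_surjective (QuotientGroup.mk'_surjective N) H, ← hH', e,
              map_top_of_surjective _ (QuotientGroup.mk'_surjective N)]))
          set m := (Nat.card ↥H') / p ^ (Nat.card ↥H').factorization p
          have h0 : Nat.card ↥H' ≠ 0 := Nat.card_pos.ne'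
          obtain ⟨B, hB⟩ := HallSolv.exists_hall (G := ↥H') (m := m) (n := p ^ (Nat.card ↥H').factorization p)
            (by rw [mul_comm, Nat.ordProj_mul_ordCompl_eq_self])
            (Nat.Coprime.pow_right _ (Nat.coprime_comm.1 (Nat.coprime_ordCompl hp.out h0)))
          set B' := B.map H'.subtype with hB'
          have hB'c : (Nat.card ↥B').Coprime p := by
            rw [card_map_of_injective H'.subtype_injective, hB]
            exact Nat.coprime_comm.1 (Nat.coprime_ordCompl hp.out h0)
          have himg : H = B'.map (QuotientGroup.mk' N) := by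
            let g : ↥H' →* ↥H := ((QuotientGroup.mk' N).comp H'.subtype).codRestrict H fun y => y.2
            have hgs : Function.Surjective g := fun ⟨y, hy⟩ => by
              obtain ⟨z, rfl⟩ := QuotientGroup.mk'_surjective N y
              exact ⟨⟨z, hy⟩, rfl⟩
            have h1 : B.map g = ⊤ := by
              refine eq_top_of_card_eq _ (Nat.dvd_antisymm (card_subgroup_dvd_card _) ?_)
              have h2 : (B.map g).index ∣ B.index := index_map_dvd B hgs
              have h3 : B.index = p ^ (Nat.card ↥H').factorization p := by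
                have h4 := B.card_mul_index
                rw [hB] at h4
                refine Nat.eq_of_mul_eq_mul_left ?_ (h4.trans ?_)
                · exact Nat.pos_of_ne_zero fun e0 => h0 (by
                    rw [← Nat.ordProj_mul_ordCompl_eq_self (Nat.card ↥H') p]
                    exact mul_eq_zero_of_right _ e0)
                · rw [mul_comm, Nat.ordProj_mul_ordCompl_eq_self]
              have h5 : (B.map g).index = 1 := by
                refine Nat.eq_one_of_dvd_coprimes ((hH.pow_right ((Nat.card ↥H').factorization p)).coprime_dvd_left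
                  (index_dvd_card (B.map g))) dvd_rfl (h3 ▸ h2)
              rw [index_eq_one.1 h5, card_top]
            refine le_antisymm (fun y hy => ?_) ?_
            · obtain ⟨b, hb, hby⟩ := h1.symm ▸ mem_top (⟨y, hy⟩ : ↥H)
              exact ⟨(b : G), ⟨b, hb, rfl⟩, congrArg Subtype.val hby⟩
            · rintro _ ⟨_, ⟨b, -, rfl⟩, rfl⟩
              exact b.2
          rw [himg]
          obtain ⟨hc, hexp⟩ := hg B' hB'c
          refine ⟨.of_setLike_mul_comm ?_, ?_⟩
          · rintro _ ⟨a, ha, rfl⟩ _ ⟨b, hb, rfl⟩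
            rw [← map_mul, ← map_mul, setLike_mul_comm (s := B') ha hb]
          · rintro _ ⟨a, ha, rfl⟩
            rw [← map_pow, hexp a ha, map_one]
        haveI : Group.IsSolvable (G ⧸ N) := by
          refine ih _ ?_ (G ⧸ N) rfl hgq
          have h1 := card_eq_card_quotient_mul_card_subgroup N
          have h2 : 2 ≤ Nat.card ↥N := by
            by_contra hlt
            exact hN1 (eq_bot_of_card_le _ (by omega))
          have h3 : 0 < Nat.card (G ⧸ N) := Nat.card_pos
          nlinarith
        exact (Group.isSolvable_iff_subgroup_quotient N).2 ⟨inferInstance, inferInstance⟩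
    -- the simple case
    have hexp : ∀ x : G, (orderOf x).Coprime p → x ^ (p - 1) = 1 := fun x hx =>
      (hg (zpowers x) (coprime_zpowers hx)).2 x (mem_zpowers x)
    by_cases hp5 : 5 ≤ p
    · exact Ctr.false (p := p) ⟨hg, hsimple, hns, hproper, hp5⟩
    · -- only the primes `2` and `3`
      apply hns
      have h23 : p = 2 ∨ p = 3 := by
        have h2 := hp.out.two_le
        have h4 : p ≠ 4 := fun e => by have := hp.out; rw [e] at this; norm_num at this
        omega
      refine Char.isSolvable_of_card_pq 2 3 Nat.prime_two Nat.prime_three _ G rfl ?_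
      refine ⟨(Nat.card G).factorization 2, (Nat.card G).factorization 3, ?_⟩
      refine Nat.eq_of_factorization_eq Nat.card_pos.ne' (by positivity) fun q => ?_
      rw [Nat.factorization_mul (pow_ne_zero _ two_ne_zero) (pow_ne_zero _ (by norm_num)),
        Nat.Prime.factorization_pow Nat.prime_two, Nat.Prime.factorization_pow Nat.prime_three,
        Finsupp.add_apply, Finsupp.single_apply, Finsupp.single_apply]
      by_cases h2 : q = 2
      · subst h2; simp
      by_cases h3 : q = 3
      · subst h3; simp
      rw [if_neg (Ne.symm h2), if_neg (Ne.symm h3), add_zero]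
      by_contra hne
      have hqs : q ∈ (Nat.card G).primeFactors :=
        Nat.support_factorization (Nat.card G) ▸ Finsupp.mem_support_iff.2 hne
      have hqp := Nat.prime_of_mem_primeFactors hqs
      haveI := Fact.mk hqp
      obtain ⟨x, hx⟩ := exists_prime_orderOf_dvd_card' (G := G) q (Nat.dvd_of_mem_primeFactors hqs)
      have hxp : (orderOf x).Coprime p := by
        rw [hx]
        exact (Nat.coprime_primes hqp hp.out).2 (by rcases h23 with rfl | rfl <;> assumption)
      have hd : q ∣ p - 1 := hx ▸ orderOf_dvd_of_pow_eq_one (hexp x hxp)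
      rcases h23 with rfl | rfl
      · exact hqp.one_lt.ne' (Nat.dvd_one.1 hd)
      · rcases (Nat.dvd_prime Nat.prime_two).1 hd with h' | h'
        · exact hqp.one_lt.ne' h'
        · exact h2 h'

end Cfsg.Agent.AbPPrime
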