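import Cfsg.Agent.Lib.AbPPrime.Basic
import Cfsg.Agent.Lib.OddDown.CoreSubgroup
import Cfsg.Agent.Lib.OddChar.OddTheorem
import Cfsg.Agent.Lib.Involutions.StronglyEmbedded
import Mathlib.GroupTheory.Transfer

/-!
A simple minimal counterexample: its Sylow 2-subgroups and a strongly embedded subgroup.
-/

set_option autoImplicit false
set_option linter.style.haveILetI false
set_option linter.unusedSectionVars false

namespace Cfsg.Agent.AbPPrime

open Subgroup Cfsg.Agent.Invol
open scoped Pointwise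

universe u

variable {G : Type u} [Group G] [Finite G] {p : ℕ} [hp : Fact p.Prime]

/-- A simple minimal counterexample. -/
structure Ctr (p : ℕ) (G : Type u) [Group G] : Prop where
  good : Good' p G
  simple : IsSimpleGroup G
  nonsolvable : ¬ Group.IsSolvable G
  proper : ∀ H : Subgroup G, H ≠ ⊤ → Group.IsSolvable ↥H
  five : 5 ≤ p

/-- The involutions of a subgroup and its elementary part. -/
def omega (S : Subgroup G) (hS : ∀ a ∈ S, ∀ b ∈ S, a * b = b * a) : Subgroup G where
  carrier := {x | x ∈ S ∧ x * x = 1}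
  one_mem' := ⟨one_mem S, one_mul 1⟩
  mul_mem' := fun {a b} ha hb => ⟨mul_mem ha.1 hb.1, by
    rw [show a * b * (a * b) = a * (b * a) * b by group, ← hS a ha.1 b hb.1,
      show a * (a * b) * b = (a * a) * (b * b) by group, ha.2, hb.2, one_mul]⟩
  inv_mem' := fun {a} ha => ⟨inv_mem ha.1, by rw [← mul_inv_rev, ha.2, inv_one]⟩

namespace Ctr

variable (h : Ctr p G)
include h

theorem p_ne_two : p ≠ 2 := by have := h.five; omega

theorem two_coprime : Nat.Coprime 2 p :=
  (Nat.coprime_primes Nat.prime_two hp.out).2 (Ne.symm h.p_ne_two)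

theorem coprime_of_two (H : Subgroup G) (hH : IsPGroup 2 H) : (Nat.card ↥H).Coprime p := by
  haveI := Fact.mk Nat.prime_two
  obtain ⟨k, hk⟩ := IsPGroup.iff_card.1 hH
  rw [hk]
  exact h.two_coprime.pow_left k

theorem sylow_comm (S : Sylow 2 G) : ∀ a ∈ (S : Subgroup G), ∀ b ∈ (S : Subgroup G), a * b = b * a :=
  fun _ ha _ hb => h.good.comm (h.coprime_of_two _ S.isPGroup') ha hb

theorem two_group_comm {T : Subgroup G} (hT : IsPGroup 2 T) : IsMulCommutative ↥T :=
  (h.good T (h.coprime_of_two T hT)).1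

theorem not_top_of_solvable {H : Subgroup G} (hH : Group.IsSolvable ↥H) : H ≠ ⊤ := by
  rintro rfl
  exact h.nonsolvable (Group.isSolvable_of_surjective (f := (topEquiv : (⊤ : Subgroup G) ≃* G).toMonoidHom)
    topEquiv.surjective)

theorem even_card : 2 ∣ Nat.card G := by
  by_contra hodd
  exact h.nonsolvable (OddChar.oddSolvable G (Nat.odd_iff.2 (Nat.two_dvd_ne_zero.1 hodd)))

theorem sylow_ne_bot (S : Sylow 2 G) : (S : Subgroup G) ≠ ⊥ := fun e => by
  haveI := Fact.mk Nat.prime_two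
  exact S.ne_bot_of_dvd_card h.even_card e

theorem normalizer_ne_top {X : Subgroup G} (h1 : X ≠ ⊥) (h2 : X ≠ ⊤) :
    normalizer (X : Set G) ≠ ⊤ := by
  haveI := h.simple
  intro e
  rcases (normalizer_eq_top_iff.1 e).eq_bot_or_eq_top with e' | e'
  exacts [h1 e', h2 e']

theorem sylow_ne_top (S : Sylow 2 G) : (S : Subgroup G) ≠ ⊤ := by
  haveI := Fact.mk Nat.prime_two
  haveI := (S.isPGroup').isNilpotent
  exact h.not_top_of_solvable inferInstance

theorem centralizer_ne_top {x : G} (hx : x ≠ 1) : centralizer ({x} : Set G) ≠ ⊤ := by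
  haveI := h.simple
  intro e
  have hm : x ∈ center G := mem_center_iff.2 fun g =>
    mem_centralizer_singleton_iff.1 (e ▸ mem_top g)
  rcases (inferInstance : (center G).Normal).eq_bot_or_eq_top with e' | e'
  · rw [e', mem_bot] at hm; exact hx hm
  · exact h.nonsolvable (Group.isSolvable_of_comm fun a b => (mem_center_iff.1 (e' ▸ mem_top a) b).symm)

/-- Some element of `N(S)` of `p`-power order moves an involution of `S`. -/
theorem exists_moving (S : Sylow 2 G) :
    ∃ c t : G, c ∈ normalizer ((S : Subgroup G) : Set G) ∧ (∃ k, c ^ p ^ k = 1) ∧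
      t ∈ (S : Subgroup G) ∧ t * t = 1 ∧ c * t * c⁻¹ ≠ t := by
  haveI := Fact.mk Nat.prime_two
  have hne : ¬ normalizer ((S : Subgroup G) : Set G) ≤ centralizer ((S : Subgroup G) : Set G) := by
    intro hle
    haveI := h.simple
    have hc := MonoidHom.ker_transferSylow_isComplement' S hle
    rcases (inferInstance : (MonoidHom.transferSylow S hle).ker.Normal).eq_bot_or_eq_top with e | e
    · rw [e] at hc; exact h.sylow_ne_top S (isComplement'_bot_left.1 hc)
    · rw [e] at hc; exact h.sylow_ne_bot S (isComplement'_top_left.1 hc)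
  obtain ⟨n, hn, hnc⟩ := SetLike.not_le_iff_exists.1 hne
  obtain ⟨a, b, ⟨k, hak⟩, hb, hab, -, haz, hbz⟩ := exists_parts (p := p) n
  have hbc : b ∈ centralizer ((S : Subgroup G) : Set G) :=
    h.good.centralises hb (h.coprime_of_two _ S.isPGroup') (zpowers_le.2 hn hbz)
  have haN : a ∈ normalizer ((S : Subgroup G) : Set G) := zpowers_le.2 hn haz
  refine (Classical.by_contradiction fun hno => ?_)
  push_neg at hno
  apply hnc
  rw [← hab]
  refine mul_mem ?_ hbc
  have key : ∀ j : ℕ, ∀ x ∈ (S : Subgroup G), x ^ 2 ^ j = 1 → a * x * a⁻¹ = x := by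
    intro j
    induction j with
    | zero =>
      intro x _ hx
      rw [pow_zero, pow_one] at hx
      simp [hx]
    | succ j ih =>
      intro x hx hxj
      have hsq : a * (x * x) * a⁻¹ = x * x := ih _ (mul_mem hx hx) (by
        rw [← pow_two, ← pow_mul, ← pow_succ']; exact hxj)
      have hax : a * x * a⁻¹ ∈ (S : Subgroup G) := (mem_normalizer_iff.1 haN x).1 hx
      have he : a * x * a⁻¹ * x⁻¹ ∈ (S : Subgroup G) := mul_mem hax (inv_mem hx)
      have he2 : a * x * a⁻¹ * x⁻¹ * (a * x * a⁻¹ * x⁻¹) = 1 := by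
        rw [show a * x * a⁻¹ * x⁻¹ * (a * x * a⁻¹ * x⁻¹) = a * x * a⁻¹ * (x⁻¹ * (a * x * a⁻¹)) * x⁻¹ by group,
          h.sylow_comm S _ (inv_mem hx) _ hax,
          show a * x * a⁻¹ * (a * x * a⁻¹ * x⁻¹) * x⁻¹ = a * (x * x) * a⁻¹ * (x⁻¹ * x⁻¹) by group, hsq]
        group
      set e := a * x * a⁻¹ * x⁻¹ with he_def
      have hfix : a * e * a⁻¹ = e := hno a e haN ⟨k, hak⟩ he he2
      have hk : ∀ i : ℕ, a ^ i * x * (a ^ i)⁻¹ = e ^ i * x := by
        intro i
        induction i with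
        | zero => simp
        | succ i hi =>
          rw [pow_succ', show a * a ^ i * x * (a * a ^ i)⁻¹ = a * (a ^ i * x * (a ^ i)⁻¹) * a⁻¹ by group,
            hi, show a * (e ^ i * x) * a⁻¹ = (a * e ^ i * a⁻¹) * (a * x * a⁻¹) by group, ← _root_.conj_pow,
            hfix, pow_succ, mul_assoc (e ^ i) e x,
            show e * x = a * x * a⁻¹ by rw [he_def]; group]
      have h1 := hk (p ^ k)
      rw [hak, inv_one, mul_one, one_mul] at h1
      have hep : e ^ p ^ k = 1 := (mul_eq_right.1 h1.symm)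
      have he1 : e = 1 := by
        rw [← orderOf_eq_one_iff]
        have h2 : orderOf e ∣ 2 := orderOf_dvd_of_pow_eq_one (by rw [pow_two]; exact he2)
        have h3 : orderOf e ∣ p ^ k := orderOf_dvd_of_pow_eq_one hep
        exact Nat.dvd_one.1 ((h.two_coprime.pow_right k) ▸ Nat.dvd_gcd h2 h3)
      exact mul_inv_eq_one.1 he1
  rw [mem_centralizer_iff]
  intro x hx
  obtain ⟨j, hj⟩ := S.isPGroup' ⟨x, hx⟩
  exact (mul_inv_eq_iff_eq_mul.1 (key j x hx (congrArg Subtype.val hj))).symm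

/-- The `p`-element `c` has an orbit of length at least five on the involutions of `S`. -/
theorem eight_le (S : Sylow 2 G) : 8 ≤ Nat.card ↥(omega (S : Subgroup G) (h.sylow_comm S)) := by
  haveI := Fact.mk Nat.prime_two
  obtain ⟨c, t, hc, ⟨k, hck⟩, htS, ht2, hmove⟩ := h.exists_moving S
  set E := omega (S : Subgroup G) (h.sylow_comm S) with hE
  have hEn : ∀ i : ℕ, c ^ i * t * (c ^ i)⁻¹ ∈ E := fun i =>
    ⟨(mem_normalizer_iff.1 (pow_mem hc i) t).1 htS, by
      rw [show c ^ i * t * (c ^ i)⁻¹ * (c ^ i * t * (c ^ i)⁻¹) = c ^ i * (t * t) * (c ^ i)⁻¹ by group, ht2]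
      group⟩
  -- the first `p` images are distinct and non-trivial
  have hinj : ∀ i j : ℕ, i < j → j < p → c ^ i * t * (c ^ i)⁻¹ ≠ c ^ j * t * (c ^ j)⁻¹ := by
    intro i j hij hjp e
    have hd : c ^ (j - i) ∈ centralizer ({t} : Set G) := by
      rw [mem_centralizer_singleton_iff]
      rw [show j = i + (j - i) by omega, pow_add] at e
      have e' : t = c ^ (j - i) * t * (c ^ (j - i))⁻¹ := by
        calc t = (c ^ i)⁻¹ * (c ^ i * t * (c ^ i)⁻¹) * c ^ i := by group
          _ = c ^ (j - i) * t * (c ^ (j - i))⁻¹ := by rw [e]; group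
      exact (eq_mul_inv_iff_mul_eq.1 e').symm
    have hcop : Nat.Coprime (j - i) (p ^ k) :=
      Nat.Coprime.pow_right k (Nat.coprime_comm.1 ((hp.out.coprime_iff_not_dvd).2 fun hdvd =>
        absurd (Nat.le_of_dvd (by omega) hdvd) (by omega)))
    obtain ⟨m, hm⟩ := exists_pow_eq_self_of_coprime (x := c)
      (hcop.coprime_dvd_right (orderOf_dvd_of_pow_eq_one hck))
    apply hmove
    have hcC : c ∈ centralizer ({t} : Set G) := hm ▸ pow_mem hd m
    rw [mem_centralizer_singleton_iff.1 hcC, mul_inv_cancel_right]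
  let φ : Option (Fin p) → ↥E := fun o => o.elim 1 fun i => ⟨_, hEn i⟩
  have hφ : Function.Injective φ := by
    rintro (_ | i) (_ | j) e
    · rfl
    · exfalso
      have e' : (1 : G) = c ^ (j : ℕ) * t * (c ^ (j : ℕ))⁻¹ := congrArg Subtype.val e
      apply hmove
      rw [conj_eq_one_iff.1 e'.symm]; group
    · exfalso
      have e' : c ^ (i : ℕ) * t * (c ^ (i : ℕ))⁻¹ = 1 := congrArg Subtype.val e
      apply hmove
      rw [conj_eq_one_iff.1 e']; group
    · have e' : c ^ (i : ℕ) * t * (c ^ (i : ℕ))⁻¹ = c ^ (j : ℕ) * t * (c ^ (j : ℕ))⁻¹ :=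
        congrArg Subtype.val e
      rcases lt_trichotomy (i : ℕ) j with hlt | heq | hgt
      · exact absurd e' (hinj _ _ hlt j.2)
      · rw [Fin.ext heq]
      · exact absurd e'.symm (hinj _ _ hgt i.2)
  have h1 := Nat.card_le_card_of_injective φ hφ
  simp only [Finite.card_option, Nat.card_eq_fintype_card (α := Fin p), Fintype.card_fin] at h1
  obtain ⟨m, hm⟩ := IsPGroup.iff_card.1 (S.isPGroup'.to_le (fun x hx => hx.1) : IsPGroup 2 E)
  have := h.five
  have hm3 : 3 ≤ m := by
    by_contra hlt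
    have : 2 ^ m ≤ 2 ^ 2 := Nat.pow_le_pow_right two_pos (by omega)
    omega
  calc 8 = 2 ^ 3 := rfl
    _ ≤ 2 ^ m := Nat.pow_le_pow_right two_pos hm3
    _ = Nat.card ↥E := hm.symm

end Ctr

/-- The data: a Sylow 2-subgroup and a strongly embedded subgroup containing its normaliser. -/
structure Emb (p : ℕ) (G : Type u) [Group G] where
  ctr : Ctr p G
  S : Sylow 2 G
  M : Subgroup G
  ne_top : M ≠ ⊤
  norm_le : normalizer ((S : Subgroup G) : Set G) ≤ M
  se : Cfsg.IsStronglyEmbedded M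

/-- `h = o n` in a solvable subgroup: `H = O(H) N_H(T)`. -/
theorem exists_core_mul {H T : Subgroup G} (hH : Group.IsSolvable ↥H) (hTH : T ≤ H)
    (hT : IsPGroup 2 T) (hTc : IsMulCommutative ↥T) (hTi : ¬ 2 ∣ T.relIndex H) {x : G} (hx : x ∈ H) :
    ∃ o ∈ (Cfsg.pPrimeCore 2 ↥H).map H.subtype, ∃ n ∈ H,
      n ∈ normalizer (T : Set G) ∧ n * o = x := by
  haveI := Fact.mk Nat.prime_two
  haveI := hH
  let T' : Sylow 2 ↥H := (hT.comap_subtype (K := H)).toSylow hTi
  have hT' : (T' : Subgroup ↥H) = T.subgroupOf H := IsPGroup.toSylow_coe _ _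
  haveI : IsMulCommutative ↥(T' : Subgroup ↥H) := by
    refine .of_setLike_mul_comm fun a ha b hb => Subtype.ext ?_
    rw [hT'] at ha hb
    exact setLike_mul_comm (s := T) (mem_subgroupOf.1 ha) (mem_subgroupOf.1 hb)
  have h1 := oddCore_sup_normalizer T' inferInstance
  haveI := FittingCores.pPrimeCore_normal (G := ↥H) 2
  obtain ⟨n, hn, o, ho, e⟩ := mem_sup_of_normal_right.1 (h1.symm ▸ mem_top (⟨x, hx⟩ : ↥H))
  refine ⟨o, ⟨o, ho, rfl⟩, n, n.2, ?_, congrArg Subtype.val e⟩
  rw [mem_normalizer_iff]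
  intro y
  have hk : ∀ z : ↥H, z ∈ (T' : Subgroup ↥H) ↔ n * z * n⁻¹ ∈ (T' : Subgroup ↥H) :=
    mem_normalizer_iff.1 hn
  rw [hT'] at hk
  constructor
  · intro hy
    exact (hk ⟨y, hTH hy⟩).1 hy
  · intro hy
    have hyH : y ∈ H := by
      have := mul_mem (mul_mem (inv_mem n.2) (hTH hy)) n.2
      simpa [mul_assoc] using this
    exact (hk ⟨y, hyH⟩).2 hy

theorem exists_emb (h : Ctr p G) : Nonempty (Emb p G) := by
  haveI := Fact.mk Nat.prime_two
  obtain ⟨S⟩ := (inferInstance : Nonempty (Sylow 2 G))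
  set E := omega (S : Subgroup G) (h.sylow_comm S) with hE
  have hES : E ≤ (S : Subgroup G) := fun x hx => hx.1
  have hEe : Cfsg.IsElementaryAbelian 2 (E.subgroupOf (S : Subgroup G)) := by
    refine ⟨.of_setLike_mul_comm fun a _ b _ => Subtype.ext (h.sylow_comm S _ a.2 _ b.2), fun a ha => ?_⟩
    exact Subtype.ext (by rw [coe_pow, pow_two]; exact (mem_subgroupOf.1 ha).2)
  haveI : (E.subgroupOf (S : Subgroup G)).Normal := ⟨fun n hn g => by
    have e : g * n * g⁻¹ = n := Subtype.ext (by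
      show (g : G) * n * (g : G)⁻¹ = n
      rw [h.sylow_comm S _ g.2 _ n.2, mul_inv_cancel_right])
    rwa [e]⟩
  have hcard : 8 ≤ Nat.card ↥(E.subgroupOf (S : Subgroup G)) := by
    rw [Nat.card_congr (subgroupOfEquivOfLe hES).toEquiv]; exact h.eight_le S
  have h2c : ∀ T : Subgroup G, IsPGroup 2 T → T ≠ ⊥ →
      Cfsg.IsPConstrained 2 ↥(normalizer (T : Set G)) := fun T hT hne =>
    haveI := h.proper _ (h.normalizer_ne_top hne (h.not_top_of_solvable
      (haveI := hT.isNilpotent; inferInstance)))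
    isPConstrained_of_solvable
  obtain ⟨W, hWodd, hW⟩ := OddDown.CoreSub.exists_core_subgroup h2c OddChar.oddSolvable S
    (E.subgroupOf (S : Subgroup G)) hEe hcard
  have hrank : ∀ B : Subgroup G, E ≤ B → ¬ Cfsg.PRankLE 2 1 ↥B := fun B hEB hr => by
    have h1 := hr (E.subgroupOf B)
      (.of_setLike_mul_comm fun a ha b hb => Subtype.ext
        (h.sylow_comm S _ (hES (mem_subgroupOf.1 ha)) _ (hES (mem_subgroupOf.1 hb))))
      (fun a ha => Subtype.ext (by rw [coe_pow, pow_two]; exact (mem_subgroupOf.1 ha).2))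
    rw [Nat.card_congr (subgroupOfEquivOfLe hEB).toEquiv] at h1
    have := h.eight_le S
    rw [← hE] at this
    omega
  have hWS := (hW (S : Subgroup G) le_rfl (hrank _ hES)).2
  obtain ⟨hWE, -⟩ := hW E hES (hrank E le_rfl)
  set M := W ⊔ normalizer ((S : Subgroup G) : Set G) with hM
  have hMne : M ≠ ⊤ := by
    rcases eq_or_ne W ⊥ with e | e
    · rw [hM, e, bot_sup_eq]
      exact h.normalizer_ne_top (h.sylow_ne_bot S) (h.sylow_ne_top S)
    · have hWt : W ≠ ⊤ := fun e' => h.not_top_of_solvable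
        (OddChar.oddSolvable ↥W hWodd) e'
      exact ne_top_of_le_ne_top (h.normalizer_ne_top e hWt) (sup_le le_normalizer hWS)
  have hcent : ∀ t ∈ E, t ≠ 1 → centralizer ({t} : Set G) ≤ M := by
    intro t ht ht1 x hx
    have hSC : (S : Subgroup G) ≤ centralizer ({t} : Set G) := fun s hs =>
      mem_centralizer_singleton_iff.2 (h.sylow_comm S _ hs _ ht.1)
    have hidx : ¬ 2 ∣ (S : Subgroup G).relIndex (centralizer ({t} : Set G)) := fun hd =>
      S.not_dvd_index (hd.trans (relIndex_dvd_index_of_le hSC))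
    obtain ⟨o, ho, n, -, hn, rfl⟩ := exists_core_mul (h.proper _ (h.centralizer_ne_top ht1)) hSC
      S.isPGroup' (h.two_group_comm S.isPGroup') hidx hx
    refine mul_mem (mem_sup_right hn) (mem_sup_left ?_)
    rw [hWE]
    exact mem_iSup_of_mem (⟨t, ht, ht1⟩ : {b : G // b ∈ E ∧ b ≠ 1}) ho
  have hSM : (S : Subgroup G) ≤ M := le_normalizer.trans le_sup_right
  refine ⟨⟨h, S, M, hMne, le_sup_right, ?_⟩⟩
  refine se_of_centralizers hMne (S.subtype hSM) ?_ ?_ fun t htM ht => ?_
  · exact even_iff_two_dvd.2 ((S.dvd_card_of_dvd_card h.even_card).trans (card_dvd_of_le hSM))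
  · rw [Sylow.coe_subtype, subgroupOf_map_subtype, inf_eq_left.2 hSM]
    exact le_sup_right
  · have hT : IsPGroup 2 (zpowers (⟨t, htM⟩ : M)) :=
      IsPGroup.of_card (n := 1) (by rw [Nat.card_zpowers, orderOf_mk, ht, pow_one])
    obtain ⟨T, hT'⟩ := hT.exists_le_sylow
    obtain ⟨m, hm⟩ := MulAction.exists_smul_eq ↥M T (S.subtype hSM)
    have hmt : m * ⟨t, htM⟩ * m⁻¹ ∈ ((S.subtype hSM : Sylow 2 ↥M) : Subgroup ↥M) := by
      rw [← hm, Sylow.coe_subgroup_smul]
      exact smul_mem_pointwise_smul _ (MulAut.conj m) _ (hT' (mem_zpowers _))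
    rw [Sylow.coe_subtype, mem_subgroupOf] at hmt
    have hmt' : (m : G) * t * (m : G)⁻¹ ∈ (S : Subgroup G) := hmt
    have hne : (m : G) * t * (m : G)⁻¹ ≠ 1 := fun e => Invol.ne_one ht (conj_eq_one_iff.1 e)
    have hE' : (m : G) * t * (m : G)⁻¹ ∈ E := ⟨hmt', by
      rw [show (m : G) * t * (m : G)⁻¹ * ((m : G) * t * (m : G)⁻¹) = (m : G) * (t * t) * (m : G)⁻¹ by group,
        Invol.mul_self ht]
      group⟩
    intro x hx
    have := hcent _ hE' hne (show (m : G) * x * (m : G)⁻¹ ∈ centralizer ({(m : G) * t * (m : G)⁻¹} : Set G) by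
      rw [mem_centralizer_singleton_iff] at hx ⊢
      rw [show (m : G) * x * (m : G)⁻¹ * ((m : G) * t * (m : G)⁻¹) = (m : G) * (x * t) * (m : G)⁻¹ by group,
        hx]
      group)
    have h2 := mul_mem (mul_mem (inv_mem m.2) this) m.2
    simpa [mul_assoc] using h2

end Cfsg.Agent.AbPPrime
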